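import Cfsg.Agent.Lib.PspInv.Table

/-!
Cancellation on the indices of the centraliser.
-/

set_option autoImplicit false
set_option maxRecDepth 20000

namespace Cfsg.Agent.PspInv

theorem c_cancel : allN (fun a => allN (fun b => !(Nat.beq (T (iv a) b) 0) || Nat.beq a b) 576) 576 = true := by
  decide +kernel

end Cfsg.Agent.PspInv
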