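import Cfsg.Agent.Lib.PspInv.Table

/-!
Facts on the indices of the centraliser of a central involution of `PSp₄(3)`, evaluated by the kernel.

Special indices: `3` is the central involution `t`, `288` the exchange `s`, `24` and `1` the root elements `a`
and `a'`, `25 = a a'` and `26 = a a'⁻¹`. Special points: `1 ↦ t`, `2 ↦ s`, `3 ↦ ts`.
-/

set_option autoImplicit false
set_option maxRecDepth 20000

namespace Cfsg.Agent.PspInv

open Cfsg.Agent.Golay.Local (allF anyF memF)
open Cfsg.Agent.Hayden (sS sI)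

/-- The number of indices below `n` passing a test. -/
def cntN (f : ℕ → Bool) (n : ℕ) : ℕ := Nat.rec 0 (fun i r => (bif f i then 1 else 0) + r) n

/-- An involution conjugate to a point among the six. -/
def clsU (i : ℕ) : Bool := anyF (fun h => memF (posE (cj h i)) U6) [0, 1, 2]

/-- A positive power is an involution. -/
def evenOrd (i : ℕ) : Bool :=
  isInv i || isInv (T i i) || isInv (T (T i i) i) || isInv (T (T i i) (T i i)) || isInv (T (T (T i i) (T i i)) (T i i))

/-- The first ten. -/
def P10 : List ℕ := [3, 4, 5, 6, 8, 9, 10, 12, 13, 14]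

theorem c_enc : allN (fun e => allN (fun p => allN (fun q =>
    Nat.blt (enc e p q) 576 && Nat.beq (enc e p q / 288) e &&
      ((Nat.beq (p1 (enc e p q)) p && Nat.beq (p2 (enc e p q)) q) ||
        (Nat.beq (p1 (enc e p q)) (ng p) && Nat.beq (p2 (enc e p q)) (ng q)))) 24) 24) 2 = true := by
  decide +kernel

theorem c_iv : allN (fun i => Nat.blt (iv i) 576 && Nat.beq (T (iv i) i) 0 && Nat.beq (T i (iv i)) 0 &&
    Nat.blt (p1 i) 24 && Nat.blt (p2 i) 24) 576 = true := by decide +kernel

theorem c_EL : allN (fun v => Nat.blt (EL v) 576 && Nat.beq (posE (EL v)) v &&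
    allN (fun w => Nat.beq (T (EL v) (EL w)) (EL (Nat.xor v w))) 16) 16 = true := by decide +kernel

theorem c_posE : allN (fun i => !(Nat.blt (posE i) 16) || Nat.beq (EL (posE i)) i) 576 = true := by
  decide +kernel

theorem c_central : allN (fun i => !(isInv i) || Nat.beq i 3 ||
    !(Nat.beq (cntN (fun j => cm i j) 576 % 64) 0)) 576 = true := by decide +kernel

theorem c_intoE : allN (fun i => !(isInv i) || anyF (fun h => Nat.blt (posE (cj h i)) 16) [0, 1, 2]) 576 = true := by
  decide +kernel

theorem c_sixteen_U : allN (fun x => !(isInv x) || !(clsU x) ||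
    Nat.blt (cntN (fun j => isInv j && cm x j && (Nat.beq j 3 || clsU j)) 576) 15) 576 = true := by
  decide +kernel

theorem c_sixteen_W : allN (fun x => !(isInv x) || Nat.beq x 3 || clsU x || anyF (fun h =>
    allN (fun j => !(isInv j && cm x j) || Nat.blt (posE (cj h j)) 16) 576) [0, 1, 2]) 576 = true := by
  decide +kernel

theorem c_nrm : allN (fun i => !(nrm i) || memF (codeH i) a4) 576 = true := by decide +kernel

theorem c_a4 : allF (fun c => memF c r60 && anyN (fun i => nrm i && Nat.beq (codeH i) c) 576) a4 = true := by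
  decide +kernel

theorem c_move_two : allN (fun c2 => allN (fun c3 => allN (fun c4 =>
    !(indep (2 + 16 * c2 + 256 * c3 + 4096 * c4)) || memF (2 + 16 * c2 + 256 * c3 + 4096 * c4) surv ||
      killed words2 (2 + 16 * c2 + 256 * c3 + 4096 * c4)) 16) 16) 16 = true := by decide +kernel

theorem c_move_four : allN (fun c2 => allN (fun c3 => allN (fun c4 =>
    !(indep (4 + 16 * c2 + 256 * c3 + 4096 * c4)) ||
      killed words4 (4 + 16 * c2 + 256 * c3 + 4096 * c4)) 16) 16) 16 = true := by decide +kernel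

theorem c_orbits : (allF (fun x => anyF (fun a => Nat.beq (ap a x) 4) a4) U6 &&
    allF (fun x => anyF (fun a => Nat.beq (ap a x) 2) a4) [2, 7, 11, 15] &&
    allF (fun x => anyF (fun a => Nat.beq (ap a x) 3) a4) [3, 6, 10, 14] &&
    allN (fun x => Nat.beq x 0 || memF x P5 || memF x P10) 16) = true := by decide +kernel

theorem c_surv : allF (fun f => anyF (fun a => memF (ap f (ap a 3)) U6) a4 &&
    allF (fun a => memF (cmp a f) r60) a4 && memF f r60) surv = true := by decide +kernel

theorem c_gen : (allF (fun r => memF r a4 ||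
      anyF (fun a => anyF (fun b => Nat.beq (cmp a (cmp r b)) 18450) a4) a4) r60 &&
    allF (fun r => memF r a4 || anyF (fun a => anyF (fun b => Nat.beq r (cmp a (cmp 18450 b))) a4) a4) r60) = true := by
  decide +kernel

theorem c_code : (allF (fun r => indep r && Nat.blt r 65536 && memF (nib r 0) P5 &&
    allF (fun x => memF (ap r x) P5) P5 && allF (fun x => memF (ap r x) P10) P10) r60) = true := by
  decide +kernel

theorem c_cent_nrm : allN (fun v => Nat.ble v 1 || allN (fun h => !(cm h (EL v)) || nrm h) 576) 16 = true := by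
  decide +kernel

theorem c_nrm_inv : allN (fun i => !(isInv i && nrm i) || Nat.blt (posE i) 16 || clsU i) 576 = true := by
  decide +kernel

theorem c_r60 : (allF (fun x => anyF (fun r => Nat.beq (ap r 1) x) r60) P5 &&
    allF (fun x => anyF (fun r => Nat.beq (ap r 4) x) r60) P10 &&
    allF (fun x => anyF (fun r => Nat.beq (ap r x) 1) r60) P5 &&
    anyF (fun r => Nat.beq (ap r 11) 1 && memF (ap r 4) [3, 6, 10, 14]) r60 &&
    allF (fun x => anyF (fun r => Nat.beq (ap r 4) 4 && Nat.beq (ap r 1) x) r60) [1, 2, 7] &&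
    anyF (fun r => Nat.beq (ap r 4) 4 && Nat.beq (ap r 11) 15 && Nat.beq (ap r 15) 11) r60 &&
    anyF (fun r => Nat.beq (ap r 1) 2 && Nat.beq (ap r 2) 1) r60) = true := by decide +kernel

theorem c_three : allF (fun x => anyN (fun h => cm h (EL x) && !(Nat.beq h 0) && Nat.beq (T (T h h) h) 0) 576)
    [3, 6, 10, 14] = true := by decide +kernel

theorem c_cent_four : allN (fun h => !(cm h (EL 4)) || (nrm h && (Nat.beq h 0 || !(Nat.beq (T (T h h) h) 0)))) 576 =
    true := by decide +kernel

theorem c_pure : allF (fun z => Nat.beq z 4 || !(memF (Nat.xor z 4) P10) ||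
    (allF (fun r => !(Nat.beq (ap r 4) 4 && Nat.beq (ap r z) z) || Nat.beq r 33825) r60 &&
      anyF (fun a => anyF (fun b => !(Nat.beq a b) && anyF (fun τ => memF (Nat.xor (Nat.xor a b) τ) P5)
        [0, 4, z, Nat.xor z 4]) P5) P5)) P10 = true := by decide +kernel

theorem c_delta : allN (fun z => !(isInv z && cm z (EL 4)) || Nat.blt (posE z) 16 || allN (fun h =>
    !(cm h z && cm h (EL 4)) || (Nat.beq (T (T h h) (T h h)) 0 &&
      (!(isInv h) || Nat.beq h 3 || anyF (fun g => memF (posE (cj g h)) P10) [0, 1, 2]))) 576) 576 = true := by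
  decide +kernel

theorem c_d : (nrm 25 && cm 25 3 && cm 25 288 && Nat.beq (T 24 1) 25 && Nat.beq (T 24 (iv 1)) 26 &&
    Nat.beq (T 25 25) 50 && Nat.beq (T 50 25) 0 &&
    allF (fun r => !(Nat.beq (ap r 3) 3 && Nat.beq (cmp r (codeH 25)) (cmp (codeH 25) r)) || Nat.beq (ap r 1) 1) r60) =
    true := by decide +kernel

theorem c_cent_d : allN (fun i => !(cm i 25) ||
    (Nat.beq (T (T (T i i) (T i i)) (T i i)) 0 &&
      (!(Nat.beq (T (T i i) i) 0) || memF i [0, 1, 2, 24, 25, 26, 48, 49, 50]) &&
      (!(cm i 288) || ((!(Nat.beq (T i i) 0) || memF i [0, 3, 288, 291]) &&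
        (!(Nat.beq (T (T i i) i) 0) || memF i [0, 25, 50]))))) 576 = true := by decide +kernel

theorem c_W : allF (fun i => (!(Nat.beq (T (cj 288 i) i) 0) || memF i [0, 26, 49]) &&
    (!(Nat.beq (cj 288 i) i) || memF i [0, 25, 50])) [0, 1, 2, 24, 25, 26, 48, 49, 50] = true := by
  decide +kernel

theorem c_three_s : allN (fun i => !(cm i 288 && !(Nat.beq i 0) && Nat.beq (T (T i i) i) 0) ||
    anyN (fun v => memF (cj (EL v) i) [25, 50]) 16) 576 = true := by decide +kernel

theorem c_cent_a : allN (fun i => !(cm i 24) || ((!(isInv i) || Nat.beq i 3) &&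
    (memF i [0, 24, 48] || evenOrd i || anyN (fun h => cm h 24 && evenOrd (T i (cj h i))) 576))) 576 = true := by
  decide +kernel

theorem c_cent_e : allN (fun i => !(isInv i && cm i 26) || Nat.beq i 3) 576 = true := by decide +kernel

theorem c_quat : (allF (fun i => cm i 24 && allF (fun j => memF (T i j) [0, 3, 6, 9, 14, 17, 20, 23])
      [0, 3, 6, 9, 14, 17, 20, 23]) [0, 3, 6, 9, 14, 17, 20, 23] && !(cm 6 14)) = true := by decide +kernel

theorem c_sl : (Nat.beq (sS (sS 9 1) 9) (sS (sS 2 9) 2) && Nat.beq (sS 9 9) 3 && Nat.beq (sS (sS 9 2) (sI 9)) 12 &&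
    Nat.beq (sS (sS 9 1) (sI 9)) 13) = true := by decide +kernel

end Cfsg.Agent.PspInv
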