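import Mathlib.GroupTheory.Transfer
import Mathlib.GroupTheory.FixedPointFree
import Mathlib.GroupTheory.Nilpotent
import Mathlib.GroupTheory.Sylow
import Cfsg.Agent.Lib.BrauerPairs.NoTwoP

/-!
Sylow 2-subgroups given by their normalisers, normal complements, involutions with central fixed points and
pairs of involutions.
-/

set_option autoImplicit false
set_option linter.unusedSectionVars false
set_option linter.style.haveILetI false

namespace Cfsg.Agent.PspInv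

variable {G : Type*} [Group G]

theorem eq_one_of_sq_of_odd {z : G} {n : ℕ} (hn : Odd n) (h : z * z = 1) (hd : z ^ n = 1) : z = 1 := by
  obtain ⟨k, rfl⟩ := hn
  rwa [pow_succ, pow_mul, pow_two, h, one_pow, one_mul] at hd

theorem pow_card_of_mem {O : Subgroup G} {z : G} (h : z ∈ O) : z ^ Nat.card O = 1 := by
  have := pow_card_eq_one' (x := (⟨z, h⟩ : O))
  exact congrArg Subtype.val this

variable [Finite G]

/-- A 2-subgroup of `L` whose normaliser in `L` has no further 2-elements is a Sylow subgroup of `L`. -/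
theorem exists_sylow_eq {L S : Subgroup G} (hSL : S ≤ L) (hS : IsPGroup 2 S)
    (hmax : ∀ g ∈ L, (∀ x ∈ S, g * x * g⁻¹ ∈ S) → (∃ k : ℕ, g ^ 2 ^ k = 1) → g ∈ S) :
    ∃ P : Sylow 2 L, (P : Subgroup L) = S.subgroupOf L := by
  classical
  haveI : Fact (Nat.Prime 2) := ⟨Nat.prime_two⟩
  have hS' : IsPGroup 2 (S.subgroupOf L) := hS.of_equiv (Subgroup.subgroupOfEquivOfLe hSL).symm
  obtain ⟨P, hP⟩ := hS'.exists_le_sylow
  refine ⟨P, le_antisymm ?_ hP⟩
  by_contra hlt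
  haveI : Group.IsNilpotent (P : Subgroup L) := P.isPGroup'.isNilpotent
  have hne : (S.subgroupOf L).subgroupOf (P : Subgroup L) < ⊤ := by
    refine lt_top_iff_ne_top.2 fun htop => hlt ?_
    exact Subgroup.subgroupOf_eq_top.1 htop
  have hn := Group.normalizerCondition_of_isNilpotent _ hne
  obtain ⟨g, hg1, hg2⟩ := SetLike.exists_of_lt hn
  refine hg2 ?_
  show ((g : L) : G) ∈ S
  refine hmax _ (g : L).2 (fun x hx => ?_) ?_
  · have hxP : (⟨x, hSL hx⟩ : L) ∈ (P : Subgroup L) := hP hx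
    exact (Subgroup.mem_normalizer_iff.1 hg1 ⟨⟨x, hSL hx⟩, hxP⟩).1 hx
  · obtain ⟨k, hk⟩ := P.isPGroup' g
    exact ⟨k, congrArg (fun y : (P : Subgroup L) => ((y : L) : G)) hk⟩

/-- Every 2-element of `L` is conjugate into the Sylow subgroup. -/
theorem exists_conj_mem {L S : Subgroup G} (hSL : S ≤ L) (hS : IsPGroup 2 S)
    (hmax : ∀ g ∈ L, (∀ x ∈ S, g * x * g⁻¹ ∈ S) → (∃ k : ℕ, g ^ 2 ^ k = 1) → g ∈ S)
    {y : G} (hy : y ∈ L) (hy2 : ∃ k : ℕ, y ^ 2 ^ k = 1) : ∃ c ∈ L, c * y * c⁻¹ ∈ S := by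
  classical
  haveI : Fact (Nat.Prime 2) := ⟨Nat.prime_two⟩
  obtain ⟨P, hP⟩ := exists_sylow_eq hSL hS hmax
  obtain ⟨k, hk⟩ := hy2
  have hY : IsPGroup 2 (Subgroup.zpowers (⟨y, hy⟩ : L)) := by
    obtain ⟨i, -, hi⟩ := (Nat.dvd_prime_pow Nat.prime_two).1 (orderOf_dvd_of_pow_eq_one hk)
    exact IsPGroup.of_card (n := i) (by rw [Nat.card_zpowers, ← Subgroup.orderOf_coe]; exact hi)
  obtain ⟨Q, hQ⟩ := hY.exists_le_sylow
  obtain ⟨c, hc⟩ := MulAction.exists_smul_eq L Q P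
  refine ⟨c, c.2, ?_⟩
  have h : (⟨y, hy⟩ : L) ∈ (Q : Subgroup L) := hQ (Subgroup.mem_zpowers _)
  have h2 : c * ⟨y, hy⟩ * c⁻¹ ∈ (P : Subgroup L) := by
    rw [← hc, Sylow.coe_subgroup_smul]
    exact ⟨_, h, rfl⟩
  rw [hP] at h2
  exact h2

/-- An abelian Sylow subgroup centralised by its normaliser in `L` has a normal complement. -/
theorem exists_odd_complement {L S : Subgroup G} (hSL : S ≤ L) (hS : IsPGroup 2 S)
    (hmax : ∀ g ∈ L, (∀ x ∈ S, g * x * g⁻¹ ∈ S) → (∃ k : ℕ, g ^ 2 ^ k = 1) → g ∈ S)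
    (hNC : ∀ g ∈ L, (∀ x ∈ S, g * x * g⁻¹ ∈ S) → ∀ x ∈ S, g * x * g⁻¹ = x) :
    ∃ O : Subgroup G, O ≤ L ∧ Odd (Nat.card O) ∧ (∀ g ∈ L, ∀ o ∈ O, g * o * g⁻¹ ∈ O) ∧
      (∀ g ∈ L, ∃ o ∈ O, ∃ x ∈ S, g = o * x) ∧ ∀ g ∈ L, (∃ n, Odd n ∧ g ^ n = 1) → g ∈ O := by
  classical
  haveI : Fact (Nat.Prime 2) := ⟨Nat.prime_two⟩
  obtain ⟨P, hP⟩ := exists_sylow_eq hSL hS hmax
  have hNP : Subgroup.normalizer ((P : Subgroup L) : Set L) ≤ Subgroup.centralizer ((P : Subgroup L) : Set L) := by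
    intro g hg
    rw [Subgroup.mem_centralizer_iff]
    intro x hx
    rw [SetLike.mem_coe, hP] at hx
    have h := hNC g g.2 (fun z hz => by
      have hz' : (⟨z, hSL hz⟩ : L) ∈ (P : Subgroup L) := by rw [hP]; exact hz
      have := (Subgroup.mem_normalizer_iff.1 hg _).1 hz'
      rw [hP] at this
      exact this) x hx
    exact Subtype.ext (mul_inv_eq_iff_eq_mul.1 h).symm
  set K := (MonoidHom.transferSylow P hNP).ker with hK
  have hcompl : Subgroup.IsComplement' K (P : Subgroup L) := MonoidHom.ker_transferSylow_isComplement' P hNP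
  have hodd : Odd (Nat.card K) := by
    rw [← Nat.not_even_iff_odd, even_iff_two_dvd]
    exact MonoidHom.not_dvd_card_ker_transferSylow P hNP
  haveI hKn : K.Normal := MonoidHom.normal_ker _
  have hker : ∀ v, MonoidHom.transferSylow P hNP v = 1 → v ∈ K := fun v h => h
  clear_value K
  refine ⟨K.map L.subtype, Subgroup.map_subtype_le K, ?_, ?_, ?_, ?_⟩
  · rwa [Subgroup.card_map_of_injective L.subtype_injective]
  · rintro g hg _ ⟨o, ho, rfl⟩
    exact ⟨⟨g, hg⟩ * o * ⟨g, hg⟩⁻¹, hKn.conj_mem o ho _, rfl⟩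
  · intro g hg
    obtain ⟨⟨o, x⟩, he⟩ := hcompl.2 ⟨g, hg⟩
    have hx : (x : L) ∈ S.subgroupOf L := hP ▸ x.2
    exact ⟨_, ⟨o, o.2, rfl⟩, _, hx, (congrArg Subtype.val he).symm⟩
  · rintro g hg ⟨n, hn, hg'⟩
    refine ⟨⟨g, hg⟩, hker _ ?_, rfl⟩
    set v := MonoidHom.transferSylow P hNP ⟨g, hg⟩
    have h1 : v ^ n = 1 := by
      rw [← map_pow, show (⟨g, hg⟩ : L) ^ n = 1 from Subtype.ext hg', map_one]
    obtain ⟨k, hk⟩ := P.isPGroup' v
    have h2 : orderOf v ∣ Nat.gcd n (2 ^ k) :=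
      Nat.dvd_gcd (orderOf_dvd_of_pow_eq_one h1) (orderOf_dvd_of_pow_eq_one hk)
    rw [Nat.Coprime.gcd_eq_one ((Nat.coprime_two_right.2 hn).pow_right k), Nat.dvd_one] at h2
    exact orderOf_eq_one_iff.1 h2

/-- An involution with central fixed points inverts modulo them and the quotient is abelian. -/
theorem abelian_mod {O Z : Subgroup G} {σ : G} (hZO : Z ≤ O) (hodd : Odd (Nat.card O)) (hσ : σ * σ = 1)
    (hnorm : ∀ o ∈ O, σ * o * σ⁻¹ ∈ O) (hσZ : ∀ z ∈ Z, σ * z * σ⁻¹ = z)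
    (hcen : ∀ z ∈ Z, ∀ o ∈ O, z * o = o * z) (hfix : ∀ o ∈ O, σ * o * σ⁻¹ = o → o ∈ Z) :
    (∀ a ∈ O, ∀ b ∈ O, a * b * a⁻¹ * b⁻¹ ∈ Z) ∧ ∀ o ∈ O, σ * o * σ⁻¹ * o ∈ Z := by
  classical
  set N : Subgroup O := Z.subgroupOf O
  haveI hN : N.Normal := ⟨fun z hz g => by
    show (g : G) * z * (g : G)⁻¹ ∈ Z
    rw [← hcen z hz g g.2, mul_inv_cancel_right]
    exact hz⟩
  let c : O →* O :=
    { toFun := fun o => ⟨σ * o * σ⁻¹, hnorm o o.2⟩
      map_one' := Subtype.ext (by simp)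
      map_mul' := fun a b => Subtype.ext (by simp [mul_assoc]) }
  have hle : N ≤ N.comap c := fun z hz => by
    show σ * (z : G) * σ⁻¹ ∈ Z
    rw [show σ * (z : G) * σ⁻¹ = z from hσZ _ hz]
    exact hz
  let φ : O ⧸ N →* O ⧸ N := QuotientGroup.map N N c hle
  have hcc : ∀ g : G, σ * (σ * g * σ⁻¹) * σ⁻¹ = g := fun g => by
    calc σ * (σ * g * σ⁻¹) * σ⁻¹ = (σ * σ) * g * (σ * σ)⁻¹ := by group
      _ = g := by rw [hσ]; simp
  have hinv : Function.Involutive φ := fun q => by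
    obtain ⟨o, rfl⟩ := QuotientGroup.mk_surjective q
    show QuotientGroup.mk (c (c o)) = _
    congr 1
    exact Subtype.ext (hcc o)
  have hfpf : MonoidHom.FixedPointFree φ := fun q hq => by
    obtain ⟨o, rfl⟩ := QuotientGroup.mk_surjective q
    rw [QuotientGroup.eq_one_iff]
    have hz : (c o)⁻¹ * o ∈ N := QuotientGroup.eq.1 hq
    show (o : G) ∈ Z
    refine hfix o o.2 ?_
    set z : G := (σ * (o : G) * σ⁻¹)⁻¹ * o with hzdef
    have hzZ : z ∈ Z := hz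
    have h1 : σ * (o : G) * σ⁻¹ * z = o := by rw [hzdef, mul_inv_cancel_left]
    have h2 : (o : G) * (z * z) = o := by
      calc (o : G) * (z * z) = σ * (σ * o * σ⁻¹) * σ⁻¹ * z * z := by rw [hcc]; group
        _ = σ * (σ * o * σ⁻¹) * σ⁻¹ * (σ * z * σ⁻¹) * z := by rw [hσZ z hzZ]
        _ = σ * (σ * o * σ⁻¹ * z) * σ⁻¹ * z := by group
        _ = σ * o * σ⁻¹ * z := by rw [show σ * (σ * o * σ⁻¹ * z) = σ * o by rw [h1]]
        _ = o := h1
    have h3 : z = 1 := eq_one_of_sq_of_odd hodd (mul_eq_left.1 h2) (pow_card_of_mem (hZO hzZ))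
    rwa [h3, mul_one] at h1
  have hI := hfpf.coe_eq_inv_of_involutive hinv
  have hC := hfpf.commute_all_of_involutive hinv
  refine ⟨fun a ha b hb => ?_, fun o ho => ?_⟩
  · have h := (hC (QuotientGroup.mk ⟨a, ha⟩ : O ⧸ N) (QuotientGroup.mk ⟨b, hb⟩)).eq
    rw [← QuotientGroup.mk_mul, ← QuotientGroup.mk_mul] at h
    have h' := hN.conj_mem _ (QuotientGroup.eq.1 h.symm) ((⟨b, hb⟩ : O) * ⟨a, ha⟩)
    have e : a * b * a⁻¹ * b⁻¹ =
        b * a * ((b * a)⁻¹ * (a * b)) * (b * a)⁻¹ := by group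
    rw [e]
    exact h'
  · have h : (QuotientGroup.mk (c ⟨o, ho⟩) : O ⧸ N) = (QuotientGroup.mk ⟨o, ho⟩)⁻¹ :=
      congrFun hI (QuotientGroup.mk ⟨o, ho⟩)
    rw [← QuotientGroup.mk_inv] at h
    have h' := QuotientGroup.eq.1 h
    have h'' : (σ * o * σ⁻¹)⁻¹ * o⁻¹ ∈ Z := h'
    have := inv_mem h''
    rw [mul_inv_rev, inv_inv, inv_inv] at this
    have h4 := hN.conj_mem ⟨o * (σ * o * σ⁻¹), mul_mem ho (hnorm o ho)⟩ this (⟨o, ho⟩ : O)⁻¹
    have e : σ * o * σ⁻¹ * o = o⁻¹ * (o * (σ * o * σ⁻¹)) * o⁻¹⁻¹ := by group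
    rw [e]
    exact h4

/-- Two involutions are conjugate in the group they generate, or they commute with a third one `z` such that
the first is conjugate to `z` times one of the two. -/
theorem pair_cases {a b : G} (ha : a * a = 1) (hb : b * b = 1) :
    (∃ c ∈ Subgroup.zpowers (a * b), c * a * c⁻¹ = b) ∨
    ∃ z ∈ Subgroup.zpowers (a * b), z * z = 1 ∧ z ≠ 1 ∧ Commute z a ∧ Commute z b ∧
      ∃ c ∈ Subgroup.zpowers (a * b), c * a * c⁻¹ = z * a ∨ c * a * c⁻¹ = z * b := by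
  rcases Nat.even_or_odd (orderOf (a * b)) with ⟨m, hm⟩ | hodd
  swap
  · haveI := Fintype.ofFinite G
    exact Or.inl (BrauerPairs.isConj_of_odd_mul ha hb hodd)
  right
  set r := a * b with hr
  have hai : a⁻¹ = a := inv_eq_of_mul_eq_one_right ha
  have hbi : b⁻¹ = b := inv_eq_of_mul_eq_one_right hb
  have hrinv : r⁻¹ = b * a := by rw [hr, mul_inv_rev, hai, hbi]
  have hca : ∀ n : ℕ, a * r ^ n * a⁻¹ = (r ^ n)⁻¹ := fun n => by
    rw [← conj_pow, ← inv_pow]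
    congr 1
    rw [hrinv, hr, hai, ← mul_assoc, ha, one_mul]
  have hm0 : 0 < m := by have := orderOf_pos r; omega
  have hz2 : r ^ m * r ^ m = 1 := by rw [← pow_add, ← hm, pow_orderOf_eq_one]
  have hzi : (r ^ m)⁻¹ = r ^ m := inv_eq_of_mul_eq_one_right hz2
  have hza : Commute (r ^ m) a := (mul_inv_eq_iff_eq_mul.1 ((hca m).trans hzi)).symm
  have hzb : Commute (r ^ m) b := by
    have e : b = a⁻¹ * r := by rw [hr]; group
    rw [e]
    exact hza.inv_right.mul_right ((Commute.refl r).pow_left m)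
  refine ⟨r ^ m, Subgroup.npow_mem_zpowers _ _, hz2, fun h => ?_, hza, hzb, ?_⟩
  · have := Nat.le_of_dvd hm0 (orderOf_dvd_of_pow_eq_one h)
    omega
  have hj : ∀ j : ℕ, r ^ j * a * (r ^ j)⁻¹ = r ^ (j + j) * a := fun j => by
    have h1 : a * (r ^ j)⁻¹ = r ^ j * a := by
      rw [← hca j, ← mul_assoc, ← mul_assoc, ha, one_mul, hai]
    rw [mul_assoc, h1, ← mul_assoc, ← pow_add]
  rcases Nat.even_or_odd m with ⟨j, hmj⟩ | ⟨j, hmj⟩
  · exact ⟨r ^ j, Subgroup.npow_mem_zpowers _ _, Or.inl (by rw [hj, hmj])⟩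
  · refine ⟨r ^ j, Subgroup.npow_mem_zpowers _ _, Or.inr ?_⟩
    rw [hj, hmj, show 2 * j + 1 = j + j + 1 by ring, pow_succ, hr, mul_assoc, mul_assoc a b b, hb, mul_one]

end Cfsg.Agent.PspInv
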