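import Cfsg.Agent.Lib.PspInv.Model
import Cfsg.Agent.Lib.PspInv.Tools

/-!
The elementary abelian subgroup `E` of order 16, the linear maps induced by its normaliser and the fusion of
the central involution into `E`.
-/

set_option autoImplicit false
set_option maxRecDepth 20000
set_option synthInstance.maxSize 10000
set_option linter.unusedSectionVars false

namespace Cfsg.Agent.PspInv

open Cfsg.Agent.Hayden (slm)
open Cfsg.Agent.Golay.Local (allF anyF memF allF_iff anyF_iff memF_iff)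

theorem beq_iff {a b : ℕ} : Nat.beq a b = true ↔ a = b :=
  ⟨Nat.eq_of_beq_eq_true, fun h => h ▸ Nat.beq_refl a⟩

theorem cm_iff {i j : ℕ} : cm i j = true ↔ T i j = T j i := beq_iff

theorem isInv_spec {i : ℕ} : isInv i = true ↔ i ≠ 0 ∧ T i i = 0 := by
  simp [isInv, beq_iff, Bool.eq_false_iff]

theorem ap_lt (c v : ℕ) : ap c v < 16 := by
  unfold ap
  refine Nat.xor_lt_two_pow (n := 4) (Nat.xor_lt_two_pow (n := 4) ?_ ?_) (Nat.xor_lt_two_pow (n := 4) ?_ ?_) <;>
    cases Nat.beq _ 1 <;> simp [nib] <;> omega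

theorem ap_basis (c : ℕ) :
    ap c 0 = 0 ∧ ap c 1 = nib c 0 ∧ ap c 2 = nib c 1 ∧ ap c 4 = nib c 2 ∧ ap c 8 = nib c 3 := by
  simp [ap, show Nat.beq 0 1 = false from rfl]

theorem nib_lt (c k : ℕ) : nib c k < 16 := Nat.mod_lt _ (by norm_num)

theorem code_split {c : ℕ} (h : c < 65536) :
    c = nib c 0 + 16 * nib c 1 + 256 * nib c 2 + 4096 * nib c 3 := by
  simp only [nib, Nat.pow_zero, Nat.div_one, pow_one]
  norm_num
  omega

theorem nib_mk {a b c d : ℕ} (ha : a < 16) (hb : b < 16) (hc : c < 16) (hd : d < 16) :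
    a + 16 * b + 256 * c + 4096 * d < 65536 ∧ nib (a + 16 * b + 256 * c + 4096 * d) 0 = a ∧
    nib (a + 16 * b + 256 * c + 4096 * d) 1 = b ∧ nib (a + 16 * b + 256 * c + 4096 * d) 2 = c ∧
    nib (a + 16 * b + 256 * c + 4096 * d) 3 = d := by
  simp only [nib, Nat.pow_zero, Nat.div_one, pow_one]
  norm_num
  omega

theorem cntN_ge {f : ℕ → Bool} {n : ℕ} {S : Finset ℕ} (h : ∀ i ∈ S, i < n ∧ f i = true) : S.card ≤ cntN f n := by
  induction n generalizing S with
  | zero =>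
    rw [Finset.eq_empty_of_forall_notMem fun i hi => Nat.not_lt_zero i (h i hi).1]
    simp
  | succ n ih =>
    have h' := ih (S := S.erase n) fun i hi => by
      obtain ⟨hne, hi'⟩ := Finset.mem_erase.1 hi
      exact ⟨lt_of_le_of_ne (Nat.lt_succ_iff.1 (h i hi').1) hne, (h i hi').2⟩
    show S.card ≤ (bif f n then 1 else 0) + cntN f n
    by_cases hn : n ∈ S
    · rw [(h n hn).2, ← Finset.card_erase_add_one hn]
      simp only [cond_true]
      omega
    · rw [Finset.erase_eq_of_notMem hn] at h'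
      omega

variable {G : Type*} [Group G]

/-- The point `v` of `E`. -/
def ep (φ : SL3 →* G) (s : G) (v : ℕ) : G := el φ s (EL v)

/-- The action of `n` on `E` has the code `c`. -/
def Act (φ : SL3 →* G) (s : G) (n : G) (c : ℕ) : Prop :=
  c < 65536 ∧ ∀ v < 16, n * ep φ s v * n⁻¹ = ep φ s (ap c v)

/-- `n` normalises `E`. -/
def NE (φ : SL3 →* G) (s : G) (n : G) : Prop := ∀ v < 16, ∃ w < 16, n * ep φ s v * n⁻¹ = ep φ s w

/-- Conjugate to `t`. -/
def TConj (φ : SL3 →* G) (g : G) : Prop := ∃ k, k * φ (slm 3) * k⁻¹ = g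

theorem EL_spec {v : ℕ} (hv : v < 16) :
    EL v < 576 ∧ posE (EL v) = v ∧ ∀ w < 16, T (EL v) (EL w) = EL (Nat.xor v w) := by
  have h := allN_spec c_EL v hv
  simp only [Bool.and_eq_true, Nat.blt_eq, beq_iff] at h
  exact ⟨h.1.1, h.1.2, fun w hw => beq_iff.1 (allN_spec h.2 w hw)⟩

theorem posE_spec {i : ℕ} (hi : i < 576) (h : posE i < 16) : EL (posE i) = i := by
  have := allN_spec c_posE i hi
  have hb : Nat.blt (posE i) 16 = true := by rw [Nat.blt_eq]; exact h
  rw [hb] at this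
  simpa [beq_iff] using this

theorem Pre.cj_lt {φ : SL3 →* G} {s : G} (P : Pre φ s) {h i : ℕ} (hh : h < 576) (hi : i < 576) : cj h i < 576 :=
  P.T_lt (P.T_lt hh hi) (iv_spec hh).1

theorem TConj.conj {φ : SL3 →* G} {g : G} (h : TConj φ g) (k : G) : TConj φ (k * g * k⁻¹) := by
  obtain ⟨l, rfl⟩ := h
  exact ⟨k * l, by group⟩

theorem TConj.of_conj {φ : SL3 →* G} {g k : G} (h : TConj φ (k * g * k⁻¹)) : TConj φ g := by
  have := h.conj k⁻¹
  rwa [show k⁻¹ * (k * g * k⁻¹) * k⁻¹⁻¹ = g by group] at this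

namespace Hyp

variable {φ : SL3 →* G} {s : G} (H : Hyp φ s)
include H

theorem ep_zero : ep φ s 0 = 1 := H.el_zero

theorem ep_one : ep φ s 1 = φ (slm 3) := H.el_three

theorem ep_two : ep φ s 2 = s := H.el_s

theorem ep_mul {v w : ℕ} (hv : v < 16) (hw : w < 16) : ep φ s v * ep φ s w = ep φ s (Nat.xor v w) := by
  rw [ep, ep, H.el_mul (EL_spec hv).1 (EL_spec hw).1, (EL_spec hv).2.2 w hw]
  rfl

theorem ep_inj {v w : ℕ} (hv : v < 16) (hw : w < 16) (h : ep φ s v = ep φ s w) : v = w := by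
  rw [← (EL_spec hv).2.1, ← (EL_spec hw).2.1, H.el_inj (EL_spec hv).1 (EL_spec hw).1 h]

theorem ep_ne_one {v : ℕ} (hv : v < 16) (h0 : v ≠ 0) : ep φ s v ≠ 1 := fun h =>
  h0 (H.ep_inj hv (by norm_num) (h.trans H.ep_zero.symm))

theorem ep_sq {v : ℕ} (hv : v < 16) : ep φ s v * ep φ s v = 1 := by
  rw [H.ep_mul hv hv, show Nat.xor v v = 0 from Nat.xor_self v, H.ep_zero]

theorem ep_comm {v w : ℕ} (hv : v < 16) (hw : w < 16) : Commute (ep φ s v) (ep φ s w) := by
  show _ = _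
  rw [H.ep_mul hv hw, H.ep_mul hw hv]
  exact congrArg _ (Nat.xor_comm v w)

theorem comm_ep_iff {i v : ℕ} (hi : i < 576) (hv : v < 16) :
    Commute (el φ s i) (ep φ s v) ↔ cm i (EL v) = true :=
  H.el_comm_iff hi (EL_spec hv).1

theorem eq_el {g : G} (h : Commute g (φ (slm 3))) : ∃ i < 576, el φ s i = g := H.mem g h.eq

theorem act_of_basis {n : G} {c : ℕ} (hc : c < 65536) (h0 : n * ep φ s 1 * n⁻¹ = ep φ s (nib c 0))
    (h1 : n * ep φ s 2 * n⁻¹ = ep φ s (nib c 1)) (h2 : n * ep φ s 4 * n⁻¹ = ep φ s (nib c 2))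
    (h3 : n * ep φ s 8 * n⁻¹ = ep φ s (nib c 3)) : Act φ s n c := by
  refine ⟨hc, fun v hv => ?_⟩
  have hd : ∀ v < 16, Nat.xor (Nat.xor (bif Nat.beq (v % 2) 1 then 1 else 0) (bif Nat.beq (v / 2 % 2) 1 then 2 else 0))
      (Nat.xor (bif Nat.beq (v / 4 % 2) 1 then 4 else 0) (bif Nat.beq (v / 8 % 2) 1 then 8 else 0)) = v := by
    decide
  have part : ∀ (b : Bool) (k x : ℕ), n * ep φ s k * n⁻¹ = ep φ s x →
      n * ep φ s (bif b then k else 0) * n⁻¹ = ep φ s (bif b then x else 0) := by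
    intro b k x h
    cases b
    · simp only [cond_false, H.ep_zero, mul_one, mul_inv_cancel]
    · exact h
  have split : ∀ {a b x y : ℕ}, a < 16 → b < 16 → x < 16 → y < 16 →
      n * ep φ s a * n⁻¹ = ep φ s x → n * ep φ s b * n⁻¹ = ep φ s y →
      n * ep φ s (Nat.xor a b) * n⁻¹ = ep φ s (Nat.xor x y) := by
    intro a b x y ha hb hx hy e1 e2
    rw [← H.ep_mul ha hb, ← H.ep_mul hx hy, ← e1, ← e2]
    group
  have lt : ∀ (b : Bool) {k : ℕ}, k < 16 → (bif b then k else 0) < 16 := by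
    intro b k hk; cases b <;> simp <;> omega
  conv_lhs => rw [← hd v hv]
  exact split (Nat.xor_lt_two_pow (n := 4) (lt _ (by norm_num)) (lt _ (by norm_num)))
    (Nat.xor_lt_two_pow (n := 4) (lt _ (by norm_num)) (lt _ (by norm_num)))
    (Nat.xor_lt_two_pow (n := 4) (lt _ (nib_lt c 0)) (lt _ (nib_lt c 1)))
    (Nat.xor_lt_two_pow (n := 4) (lt _ (nib_lt c 2)) (lt _ (nib_lt c 3)))
    (split (lt _ (by norm_num)) (lt _ (by norm_num)) (lt _ (nib_lt c 0)) (lt _ (nib_lt c 1))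
      (part _ _ _ h0) (part _ _ _ h1))
    (split (lt _ (by norm_num)) (lt _ (by norm_num)) (lt _ (nib_lt c 2)) (lt _ (nib_lt c 3))
      (part _ _ _ h2) (part _ _ _ h3))

theorem exists_code {n : G} (h : NE φ s n) : ∃ c, Act φ s n c := by
  obtain ⟨a, ha, e0⟩ := h 1 (by norm_num)
  obtain ⟨b, hb, e1⟩ := h 2 (by norm_num)
  obtain ⟨c, hc, e2⟩ := h 4 (by norm_num)
  obtain ⟨d, hd, e3⟩ := h 8 (by norm_num)
  obtain ⟨l, n0, n1, n2, n3⟩ := nib_mk ha hb hc hd
  exact ⟨_, H.act_of_basis l (by rw [n0]; exact e0) (by rw [n1]; exact e1) (by rw [n2]; exact e2)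
    (by rw [n3]; exact e3)⟩

omit H in
theorem _root_.Cfsg.Agent.PspInv.Act.ne {n : G} {c : ℕ} (h : Act φ s n c) : NE φ s n :=
  fun v hv => ⟨ap c v, ap_lt c v, h.2 v hv⟩

theorem act_unique {n : G} {c d : ℕ} (h : Act φ s n c) (h' : Act φ s n d) : c = d := by
  have e : ∀ v < 16, ap c v = ap d v := fun v hv =>
    H.ep_inj (ap_lt c v) (ap_lt d v) ((h.2 v hv).symm.trans (h'.2 v hv))
  have e1 := e 1 (by norm_num)
  have e2 := e 2 (by norm_num)
  have e4 := e 4 (by norm_num)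
  have e8 := e 8 (by norm_num)
  simp only [(ap_basis c).2.1, (ap_basis d).2.1, (ap_basis c).2.2.1, (ap_basis d).2.2.1, (ap_basis c).2.2.2.1,
    (ap_basis d).2.2.2.1, (ap_basis c).2.2.2.2, (ap_basis d).2.2.2.2] at e1 e2 e4 e8
  rw [code_split h.1, code_split h'.1, e1, e2, e4, e8]

theorem act_mul {n m : G} {c d : ℕ} (h : Act φ s n c) (h' : Act φ s m d) : Act φ s (n * m) (cmp c d) := by
  have key : ∀ v < 16, (n * m) * ep φ s v * (n * m)⁻¹ = ep φ s (ap c (ap d v)) := fun v hv => by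
    rw [show (n * m) * ep φ s v * (n * m)⁻¹ = n * (m * ep φ s v * m⁻¹) * n⁻¹ by group, h'.2 v hv,
      h.2 _ (ap_lt d v)]
  obtain ⟨l, n0, n1, n2, n3⟩ := nib_mk (ap_lt c (nib d 0)) (ap_lt c (nib d 1)) (ap_lt c (nib d 2))
    (ap_lt c (nib d 3))
  obtain ⟨-, b0, b1, b2, b3⟩ := ap_basis d
  unfold cmp
  exact H.act_of_basis l (by rw [key 1 (by norm_num), n0, b0]) (by rw [key 2 (by norm_num), n1, b1])
    (by rw [key 4 (by norm_num), n2, b2]) (by rw [key 8 (by norm_num), n3, b3])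

theorem ap_cmp {n m : G} {c d : ℕ} (h : Act φ s n c) (h' : Act φ s m d) {v : ℕ} (hv : v < 16) :
    ap (cmp c d) v = ap c (ap d v) := by
  refine H.ep_inj (ap_lt _ _) (ap_lt _ _) ?_
  rw [← (H.act_mul h h').2 v hv, ← h.2 _ (ap_lt d v), ← h'.2 v hv]
  group

theorem ne_inv {n : G} (h : NE φ s n) : NE φ s n⁻¹ := by
  obtain ⟨c, hc⟩ := H.exists_code h
  let f : Fin 16 → Fin 16 := fun v => ⟨ap c v, ap_lt c v⟩
  have hf : Function.Injective f := fun a b hab => by
    have e : ap c a = ap c b := congrArg Fin.val hab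
    have := (hc.2 a a.2).trans ((congrArg _ e).trans (hc.2 b b.2).symm)
    exact Fin.ext (H.ep_inj a.2 b.2 (mul_left_cancel (mul_right_cancel this)))
  intro w hw
  obtain ⟨v, hv⟩ := (Finite.injective_iff_surjective.1 hf) ⟨w, hw⟩
  refine ⟨v, v.2, ?_⟩
  rw [← show ap c v = w from congrArg Fin.val hv, ← hc.2 v v.2]
  group

theorem ne_mul {n m : G} (h : NE φ s n) (h' : NE φ s m) : NE φ s (n * m) := by
  obtain ⟨c, hc⟩ := H.exists_code h
  obtain ⟨d, hd⟩ := H.exists_code h'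
  exact (H.act_mul hc hd).ne

theorem act_inv {n : G} {c : ℕ} (h : Act φ s n c) : ∃ d, Act φ s n⁻¹ d ∧ ∀ v < 16, ap d (ap c v) = v := by
  obtain ⟨d, hd⟩ := H.exists_code (H.ne_inv h.ne)
  refine ⟨d, hd, fun v hv => H.ep_inj (ap_lt _ _) hv ?_⟩
  rw [← hd.2 _ (ap_lt c v), ← h.2 v hv]
  group

theorem act_el {i : ℕ} (hi : i < 576) (h : nrm i = true) : Act φ s (el φ s i) (codeH i) := by
  simp only [nrm, Bool.and_eq_true, Nat.blt_eq] at h
  obtain ⟨⟨⟨h0, h1⟩, h2⟩, h3⟩ := h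
  obtain ⟨l, n0, n1, n2, n3⟩ := nib_mk h0 h1 h2 h3
  have key : ∀ v < 16, posE (cj i (EL v)) < 16 →
      el φ s i * ep φ s v * (el φ s i)⁻¹ = ep φ s (posE (cj i (EL v))) := fun v hv hp => by
    rw [ep, ep, H.el_cj hi (EL_spec hv).1, posE_spec (H.cj_lt hi (EL_spec hv).1) hp]
  unfold codeH
  exact H.act_of_basis l (by rw [n0]; exact key 1 (by norm_num) h0) (by rw [n1]; exact key 2 (by norm_num) h1)
    (by rw [n2]; exact key 4 (by norm_num) h2) (by rw [n3]; exact key 8 (by norm_num) h3)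

theorem nrm_of_ne {i : ℕ} (hi : i < 576) (h : NE φ s (el φ s i)) : nrm i = true := by
  have key : ∀ v < 16, posE (cj i (EL v)) < 16 := fun v hv => by
    obtain ⟨w, hw, e⟩ := h v hv
    rw [ep, ep, H.el_cj hi (EL_spec hv).1] at e
    rw [H.el_inj (H.cj_lt hi (EL_spec hv).1) (EL_spec hw).1 e, (EL_spec hw).2.1]
    exact hw
  simp only [nrm, Bool.and_eq_true, Nat.blt_eq]
  exact ⟨⟨⟨key 1 (by norm_num), key 2 (by norm_num)⟩, key 4 (by norm_num)⟩, key 8 (by norm_num)⟩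

/-- A map fixing the first point lies in the list. -/
theorem fix_mem_a4 {n : G} {c : ℕ} (h : Act φ s n c) (h1 : nib c 0 = 1) :
    c ∈ a4 ∧ ∃ i < 576, el φ s i = n ∧ nrm i = true := by
  have e := h.2 1 (by norm_num)
  rw [(ap_basis c).2.1, h1, H.ep_one] at e
  obtain ⟨i, hi, rfl⟩ := H.eq_el (g := n) (mul_inv_eq_iff_eq_mul.1 e)
  have hn := H.nrm_of_ne hi h.ne
  have hm := allN_spec c_nrm i hi
  rw [hn] at hm
  simp only [Bool.not_true, Bool.false_or, memF_iff] at hm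
  rw [H.act_unique h (H.act_el hi hn)]
  exact ⟨hm, i, hi, rfl, hn⟩

theorem a4_real {c : ℕ} (h : c ∈ a4) : ∃ i < 576, nrm i = true ∧ Act φ s (el φ s i) c := by
  have h' := allF_iff.1 c_a4 c h
  simp only [Bool.and_eq_true] at h'
  obtain ⟨i, hi, hh⟩ := anyN_spec h'.2
  simp only [Bool.and_eq_true, beq_iff] at hh
  exact ⟨i, hi, hh.1, hh.2 ▸ H.act_el hi hh.1⟩

theorem act_a4_nib {c : ℕ} (h : c ∈ a4) : nib c 0 = 1 := by
  have e : ∀ c ∈ a4, nib c 0 = 1 := by decide +kernel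
  exact e c h

/-- A word of maps is realised. -/
theorem wmap_real {f : ℕ} {n : G} (h : Act φ s n f) {w : List ℕ} (hw : ∀ a ∈ w, a < 12) :
    ∃ m, Act φ s m (wmap f w) := by
  unfold wmap
  suffices ∀ (w : List ℕ), (∀ a ∈ w, a < 12) → ∀ (g : ℕ) (m : G), Act φ s m g →
      ∃ m', Act φ s m' (List.foldl (fun g a => cmp (cmp g (a4.getD a 0)) f) g w) from this w hw f n h
  intro w
  induction w with
  | nil => exact fun _ g m hm => ⟨m, hm⟩
  | cons a w ih =>
    intro hw g m hm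
    have ha : a4.getD a 0 ∈ a4 := by
      have e : ∀ a < 12, a4.getD a 0 ∈ a4 := by decide
      exact e a (hw a List.mem_cons_self)
    obtain ⟨i, -, -, hi⟩ := H.a4_real ha
    exact ih (fun b hb => hw b (List.mem_cons_of_mem _ hb)) _ _ (H.act_mul (H.act_mul hm hi) h)

theorem not_killed {f : ℕ} {n : G} (h : Act φ s n f) {ws : List (List ℕ)}
    (hw : ∀ w ∈ ws, ∀ a ∈ w, a < 12) : killed ws f = false := by
  rw [Bool.eq_false_iff]
  intro hk
  obtain ⟨w, hw', hb⟩ := anyF_iff.1 hk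
  obtain ⟨m, hm⟩ := H.wmap_real h (hw w hw')
  simp only [bad, Bool.and_eq_true, beq_iff, Bool.not_eq_true', Bool.eq_false_iff, ne_eq, memF_iff] at hb
  exact hb.2 (H.fix_mem_a4 hm hb.1).1

theorem indep_of_act {n : G} {c : ℕ} (h : Act φ s n c) : indep c = true := by
  have aux : ∀ (f : ℕ → Bool) (k : ℕ), (∀ v < k, f v = true) → allN f k = true := by
    intro f k
    induction k with
    | zero => exact fun _ => rfl
    | succ k ih =>
      intro hh
      show (bif f k then allN f k else false) = true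
      rw [hh k (Nat.lt_succ_self k)]
      exact ih fun v hv => hh v (Nat.lt_succ_of_lt hv)
  refine aux _ 16 fun v hv => ?_
  by_cases h0 : v = 0
  · subst h0; rfl
  · rw [show Nat.beq v 0 = false by rw [Bool.eq_false_iff, ne_eq, beq_iff]; exact h0, Bool.false_or,
      Bool.not_eq_true', Bool.eq_false_iff, ne_eq, beq_iff]
    intro e
    have := h.2 v hv
    rw [e, H.ep_zero] at this
    exact H.ep_ne_one hv h0 (by
      rw [show ep φ s v = n⁻¹ * (n * ep φ s v * n⁻¹) * n by group, this]; group)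

/-- No map sends the first point among the six. -/
theorem not_six {n : G} {c : ℕ} (h : Act φ s n c) : nib c 0 ∉ U6 := by
  intro hU
  have ho := c_orbits
  simp only [Bool.and_eq_true] at ho
  obtain ⟨a, ha, ha'⟩ := anyF_iff.1 (allF_iff.1 ho.1.1.1 _ hU)
  rw [beq_iff] at ha'
  obtain ⟨i, -, -, hi⟩ := H.a4_real ha
  have hm := H.act_mul hi h
  have h4 : nib (cmp a c) 0 = 4 := by
    rw [← (ap_basis _).2.1, H.ap_cmp hi h (by norm_num), (ap_basis c).2.1, ha']
  have hc := code_split hm.1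
  rw [h4] at hc
  have h2 := allN_spec (allN_spec (allN_spec c_move_four _ (nib_lt (cmp a c) 1)) _ (nib_lt (cmp a c) 2)) _
    (nib_lt (cmp a c) 3)
  rw [← hc, H.indep_of_act hm, H.not_killed hm (by decide +kernel)] at h2
  exact Bool.noConfusion h2

/-- The conjugates of `t` in `C(t)` are seen in `E`. -/
theorem exists_into_E {i : ℕ} (hi : i < 576) (h : isInv i = true) :
    ∃ g < 576, ∃ v < 16, v ≠ 0 ∧ el φ s g * el φ s i * (el φ s g)⁻¹ = ep φ s v := by
  have h' := allN_spec c_intoE i hi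
  rw [h] at h'
  simp only [Bool.not_true, Bool.false_or] at h'
  obtain ⟨g, hg, hp⟩ := anyF_iff.1 h'
  have hg' : g < 576 := by
    simp only [List.mem_cons, List.not_mem_nil, or_false] at hg
    omega
  rw [Nat.blt_eq] at hp
  have he := H.el_cj hg' hi
  refine ⟨g, hg', _, hp, fun h0 => ?_, ?_⟩
  · have e := posE_spec (H.cj_lt hg' hi) hp
    rw [h0] at e
    rw [show cj g i = EL 0 from e.symm, show el φ s (EL 0) = 1 from H.el_zero] at he
    refine (isInv_spec.1 h).1 ((H.el_eq_one hi).1 ?_)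
    rw [show el φ s i = (el φ s g)⁻¹ * (el φ s g * el φ s i * (el φ s g)⁻¹) * el φ s g by group, he]
    group
  · rw [he, ep, posE_spec (H.cj_lt hg' hi) hp]

/-- A conjugate of `t` in `E` is its image under the normaliser of `E`. -/
theorem exists_mover {v : ℕ} (hv : v < 16) {g : G} (hg : g * φ (slm 3) * g⁻¹ = ep φ s v) :
    ∃ n c, Act φ s n c ∧ nib c 0 = v := by
  have hex : ∀ w < 16, ∃ j < 576, el φ s j = g⁻¹ * ep φ s w * g := fun w hw => by
    refine H.eq_el ?_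
    have hc : Commute (ep φ s w) (g * φ (slm 3) * g⁻¹) := hg ▸ H.ep_comm hw hv
    show _ = _
    calc g⁻¹ * ep φ s w * g * φ (slm 3) = g⁻¹ * (ep φ s w * (g * φ (slm 3) * g⁻¹)) * g := by group
      _ = _ := by rw [hc.eq]; group
  choose J hJlt hJ using hex
  have Jinj : ∀ {a b : ℕ} (ha : a < 16) (hb : b < 16), J a ha = J b hb → a = b := fun ha hb e => by
    have := congrArg (el φ s) e
    rw [hJ, hJ] at this
    exact H.ep_inj ha hb (mul_left_cancel (mul_right_cancel this))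
  have Jinv : ∀ {a : ℕ} (ha : a < 16), a ≠ 0 → isInv (J a ha) = true := fun {a} ha h0 => by
    refine isInv_spec.2 ⟨fun e => H.ep_ne_one ha h0 ?_, ?_⟩
    · have := hJ _ ha
      rw [e, H.el_zero] at this
      calc ep φ s a = g * (g⁻¹ * ep φ s a * g) * g⁻¹ := by group
        _ = 1 := by rw [← this]; group
    · rw [← H.el_eq_one (H.T_lt (hJlt _ ha) (hJlt _ ha)), ← H.el_mul (hJlt _ ha) (hJlt _ ha), hJ]
      calc g⁻¹ * ep φ s a * g * (g⁻¹ * ep φ s a * g) = g⁻¹ * (ep φ s a * ep φ s a) * g := by group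
        _ = 1 := by rw [H.ep_sq ha]; group
  have Jcm : ∀ {a b : ℕ} (ha : a < 16) (hb : b < 16), cm (J a ha) (J b hb) = true := fun {a b} ha hb => by
    rw [← H.el_comm_iff (hJlt _ ha) (hJlt _ hb), hJ, hJ]
    calc g⁻¹ * ep φ s a * g * (g⁻¹ * ep φ s b * g) = g⁻¹ * (ep φ s a * ep φ s b) * g := by group
      _ = _ := by rw [(H.ep_comm ha hb).eq]; group
  -- some element of the conjugate lies outside the subgroup of index two
  obtain ⟨a, ha, ha0, ha3, haU⟩ :
      ∃ a, ∃ ha : a < 16, a ≠ 0 ∧ J a ha ≠ 3 ∧ clsU (J a ha) = false := by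
    by_contra hall
    push Not at hall
    obtain ⟨x, hx, hx0, hxU⟩ : ∃ x, ∃ hx : x < 16, x ≠ 0 ∧ clsU (J x hx) = true := by
      by_cases h1 : J 1 (by norm_num) = 3
      · refine ⟨2, by norm_num, by norm_num, ?_⟩
        have h2 : J 2 (by norm_num) ≠ 3 := fun e => absurd (Jinj (by norm_num) (by norm_num) (h1.trans e.symm)) (by norm_num)
        simpa using hall 2 (by norm_num) (by norm_num) h2
      · exact ⟨1, by norm_num, by norm_num, by simpa using hall 1 (by norm_num) (by norm_num) h1⟩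
    have h2 := allN_spec c_sixteen_U _ (hJlt x hx)
    rw [Jinv hx hx0, hxU] at h2
    simp only [Bool.not_true, Bool.false_or, Nat.blt_eq] at h2
    let S : Finset ℕ := (Finset.univ : Finset {a : Fin 16 // a.val ≠ 0}).image fun a => J a.1 a.1.2
    have hS : S.card = 15 := by
      rw [Finset.card_image_of_injective _ fun a b e => Subtype.ext (Fin.ext (Jinj a.1.2 b.1.2 e))]
      decide
    have hS' := cntN_ge (f := fun j => isInv j && cm (J x hx) j && (Nat.beq j 3 || clsU j)) (n := 576) (S := S)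
      fun j hj => by
        obtain ⟨b, -, rfl⟩ := Finset.mem_image.1 hj
        refine ⟨hJlt _ b.1.2, ?_⟩
        rw [Jinv b.1.2 b.2, Jcm hx b.1.2]
        by_cases e : J b.1 b.1.2 = 3
        · simp [e]
        · simp [hall b.1 b.1.2 b.2 e]
    omega
  have h1 := allN_spec c_sixteen_W _ (hJlt a ha)
  rw [Jinv ha ha0, haU, show Nat.beq (J a ha) 3 = false by rw [Bool.eq_false_iff, ne_eq, beq_iff]; exact ha3] at h1
  simp only [Bool.not_true, Bool.false_or] at h1
  obtain ⟨h, hh, hall⟩ := anyF_iff.1 h1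
  have hh' : h < 576 := by
    simp only [List.mem_cons, List.not_mem_nil, or_false] at hh
    omega
  have hE : ∀ w < 16, ∃ u < 16, el φ s h * (g⁻¹ * ep φ s w * g) * (el φ s h)⁻¹ = ep φ s u := fun w hw => by
    by_cases hw0 : w = 0
    · exact ⟨0, by norm_num, by rw [hw0, H.ep_zero]; group⟩
    have hp := allN_spec hall _ (hJlt w hw)
    rw [Jinv hw hw0, Jcm ha hw] at hp
    simp only [Bool.and_self, Bool.not_true, Bool.false_or, Nat.blt_eq] at hp
    exact ⟨_, hp, by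
      rw [← hJ w hw, H.el_cj hh' (hJlt w hw), ep, posE_spec (H.cj_lt hh' (hJlt w hw)) hp]⟩
  have hn : NE φ s (el φ s h * g⁻¹) := fun w hw => by
    obtain ⟨u, hu, e⟩ := hE w hw
    exact ⟨u, hu, by rw [← e]; group⟩
  obtain ⟨c, hc⟩ := H.exists_code (H.ne_inv hn)
  refine ⟨_, c, hc, H.ep_inj (nib_lt c 0) hv ?_⟩
  rw [← (ap_basis c).2.1, ← hc.2 1 (by norm_num), H.ep_one, ← hg, ← mul_right_inj g⁻¹, ← mul_left_inj g]
  calc g⁻¹ * ((el φ s h * g⁻¹)⁻¹ * φ (slm 3) * (el φ s h * g⁻¹)⁻¹⁻¹) * g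
      = (el φ s h)⁻¹ * (φ (slm 3) * el φ s h) := by group
    _ = φ (slm 3) := by rw [← H.commutes hh']; group
    _ = _ := by group

end Hyp

end Cfsg.Agent.PspInv
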