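import Cfsg.Agent.Lib.PspInv.Elem
import Cfsg.Agent.Lib.BrauerSuzuki.ZStar

/-!
Without a subgroup of index two the involution `t` is fused to the exchange, the normaliser of `E` induces the
sixty maps and contains the centralisers of the other involutions of `E`.
-/

set_option autoImplicit false
set_option maxRecDepth 20000
set_option synthInstance.maxSize 10000
set_option linter.unusedSectionVars false
set_option linter.style.haveILetI false

namespace Cfsg.Agent.PspInv

open Cfsg.Agent.Hayden (slm)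
open Cfsg.Agent.Golay.Local (allF anyF memF allF_iff anyF_iff memF_iff)

theorem c_fix : allF (fun r => !(Nat.beq (cmp r r) 33825) || anyF (fun x => Nat.beq (ap r x) x) P5) r60 = true := by
  decide +kernel

theorem c_cent_E : allN (fun i => !(nrm i) || !(Nat.beq (codeH i) 33825) || Nat.blt (posE i) 16) 576 = true := by
  decide +kernel

theorem ap_id : ∀ v < 16, ap 33825 v = v := by decide +kernel

theorem r60_spec {r : ℕ} (h : r ∈ r60) :
    indep r = true ∧ r < 65536 ∧ nib r 0 ∈ P5 ∧ (∀ x ∈ P5, ap r x ∈ P5) ∧ ∀ x ∈ P10, ap r x ∈ P10 := by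
  have h' := allF_iff.1 c_code r h
  simp only [Bool.and_eq_true, allF_iff, memF_iff, Nat.blt_eq, and_assoc] at h'
  exact h'

theorem P5_lt : ∀ x ∈ P5, x < 16 ∧ x ≠ 0 := by decide

theorem P10_lt : ∀ x ∈ P10, x < 16 ∧ x ≠ 0 ∧ x ≠ 1 ∧ x ∉ P5 := by decide

theorem U6_P10 : ∀ x ∈ U6, x ∈ P10 := by decide

theorem points : ∀ x < 16, x = 0 ∨ x ∈ P5 ∨ x ∈ P10 := by decide

theorem xor_lt {v w : ℕ} (hv : v < 16) (hw : w < 16) : Nat.xor v w < 16 := Nat.xor_lt_two_pow (n := 4) hv hw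

variable {G : Type*} [Group G]

/-- `t` is fused to the exchange. -/
structure Conf (φ : SL3 →* G) (s : G) : Prop extends Hyp φ s where
  fused : ∃ g, g * φ (slm 3) * g⁻¹ = s

/-- Conjugation by the inverse. -/
theorem conj_back {m g h : G} (e : m * g * m⁻¹ = h) : m⁻¹ * h * m = g := by
  rw [← e]; group

theorem commute_conj {g h : G} (e : Commute g h) (k : G) : Commute (k * g * k⁻¹) (k * h * k⁻¹) :=
  (Commute.conj_iff k).2 e

/-- The part of the centraliser of `t` without exchange. -/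
def evenPart {φ : SL3 →* G} {s : G} (H : Hyp φ s) : Subgroup G where
  carrier := {g | ∃ i < 288, el φ s i = g}
  one_mem' := ⟨0, by norm_num, H.el_zero⟩
  mul_mem' := by
    rintro _ _ ⟨i, hi, rfl⟩ ⟨j, hj, rfl⟩
    refine ⟨T i j, ?_, (H.el_mul (hi.trans (by norm_num)) (hj.trans (by norm_num))).symm⟩
    obtain ⟨-, -, -, a1, a2⟩ := iv_spec (hi.trans (by norm_num : 288 < 576))
    obtain ⟨-, -, -, b1, b2⟩ := iv_spec (hj.trans (by norm_num : 288 < 576))
    unfold T
    rw [show i / 288 = 0 from Nat.div_eq_of_lt hi, Nat.beq_refl, cond_true, Nat.div_eq_of_lt hj]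
    obtain ⟨h1, h2, -⟩ := enc_spec (e := 0) (by norm_num) (slm_mul a1 b1).1 (slm_mul a2 b2).1
    omega
  inv_mem' := by
    rintro _ ⟨i, hi, rfl⟩
    refine ⟨iv i, ?_, (H.el_inv (hi.trans (by norm_num))).symm⟩
    obtain ⟨-, -, -, a1, a2⟩ := iv_spec (hi.trans (by norm_num : 288 < 576))
    unfold iv
    rw [show i / 288 = 0 from Nat.div_eq_of_lt hi, Nat.beq_refl, cond_true]
    have e : ∀ p < 24, Hayden.sI p < 24 := by decide +kernel
    obtain ⟨h1, h2, -⟩ := enc_spec (e := 0) (by norm_num) (e _ a1) (e _ a2)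
    omega

namespace Hyp

variable {φ : SL3 →* G} {s : G} (H : Hyp φ s)
include H

theorem mover_conj {n : G} {c : ℕ} (h : Act φ s n c) : n * φ (slm 3) * n⁻¹ = ep φ s (nib c 0) := by
  rw [← H.ep_one, h.2 1 (by norm_num), (ap_basis c).2.1]

theorem tconj_mover {n : G} {c : ℕ} (h : Act φ s n c) : TConj φ (ep φ s (nib c 0)) := ⟨n, H.mover_conj h⟩

theorem s_comm : Commute s (φ (slm 3)) := mul_inv_eq_iff_eq_mul.1 H.sigma_z

variable [Finite G]

/-- Without a subgroup of index two, `t` is fused into `E`. -/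
theorem exists_fused (hG : ∀ K : Subgroup G, K.index ≠ 2) :
    ∃ v < 16, v ≠ 0 ∧ v ≠ 1 ∧ TConj φ (ep φ s v) := by
  by_contra hcon
  push Not at hcon
  haveI hOn : (pPrimeCore 2 G).Normal := Cfsg.Agent.FittingCores.pPrimeCore_normal 2
  have hodd : Odd (Nat.card (pPrimeCore 2 G)) := Nat.coprime_two_right.1
    (Cfsg.Agent.FittingCores.pPrimeCore_coprime (G := G) 2)
  set O := pPrimeCore 2 G
  have hiso : IsIsolated (φ (slm 3)) := by
    intro g hg
    obtain ⟨i, hi, he⟩ := H.eq_el hg.symm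
    have hI : isInv i = true := by
      rw [← H.isInv_iff hi, he, BrauerSuzuki.orderOf_conj_eq]
      exact orderOf_eq_prime (by rw [pow_two]; exact H.t_sq) H.t_ne
    obtain ⟨h, hh, v, hv, hv0, hvE⟩ := H.exists_into_E hi hI
    have hT : TConj φ (ep φ s v) := ⟨el φ s h * g, by rw [← hvE, he]; group⟩
    obtain rfl : v = 1 := by_contra fun h1 => hcon v hv hv0 h1 hT
    rw [← he, ← conj_back hvE, H.ep_one, mul_assoc, ← H.commutes hh, inv_mul_cancel_left]
  have hz := BrauerSuzuki.zStar G (φ (slm 3)) (orderOf_eq_prime (by rw [pow_two]; exact H.t_sq) H.t_ne) hiso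
  have hti : (φ (slm 3))⁻¹ = φ (slm 3) := inv_eq_of_mul_eq_one_right H.t_sq
  have hdec : ∀ g : G, ∃ o ∈ O, ∃ i < 576, g = o * el φ s i := by
    intro g
    have hy : g * φ (slm 3) * g⁻¹ * (g * φ (slm 3) * g⁻¹) = 1 := by
      calc g * φ (slm 3) * g⁻¹ * (g * φ (slm 3) * g⁻¹) = g * (φ (slm 3) * φ (slm 3)) * g⁻¹ := by group
        _ = 1 := by rw [H.t_sq]; group
    have hm : φ (slm 3) * (g * φ (slm 3) * g⁻¹) ∈ O := by
      have := hOn.conj_mem _ (hz g) (φ (slm 3))
      rwa [hti, show φ (slm 3) * (g * φ (slm 3) * g⁻¹ * φ (slm 3)) * φ (slm 3) = φ (slm 3) * (g * φ (slm 3) * g⁻¹) * (φ (slm 3) * φ (slm 3)) by group, H.t_sq, mul_one] at this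
    have hd : Odd (orderOf (φ (slm 3) * (g * φ (slm 3) * g⁻¹))) := hodd.of_dvd_nat (Subgroup.orderOf_dvd_natCard _ hm)
    haveI := Fintype.ofFinite G
    obtain ⟨c, hc, hce⟩ := BrauerPairs.isConj_of_odd_mul H.t_sq hy hd
    obtain ⟨i, hi, hie⟩ := H.eq_el (g := c⁻¹ * g) (by
      show _ = _
      calc c⁻¹ * g * φ (slm 3) = c⁻¹ * (g * φ (slm 3) * g⁻¹) * g := by group
        _ = φ (slm 3) * (c⁻¹ * g) := by rw [← hce]; group)
    exact ⟨c, (Subgroup.zpowers_le.2 hm) hc, i, hi, by rw [hie]; group⟩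
  set M := evenPart H
  refine hG (O ⊔ M) (Subgroup.index_eq_two_iff.2 ⟨el φ s 288, fun b => ?_⟩)
  have hs : el φ s 288 ∉ O ⊔ M := by
    rw [Subgroup.mem_sup_of_normal_left]
    rintro ⟨o, ho, m, ⟨j, hj, rfl⟩, e⟩
    have hj' : j < 576 := hj.trans (by norm_num)
    have hk : o = el φ s (T 288 (iv j)) := by
      rw [← H.el_mul (by norm_num) (iv_spec hj').1, ← H.el_inv hj', ← e]; group
    obtain ⟨n, hn⟩ := hodd
    have ho1 := pow_card_of_mem ho
    rw [hn] at ho1
    have hM : o ∈ M := by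
      have h2 : o * o ∈ M := by
        rw [hk, H.el_mul (H.T_lt (by norm_num) (iv_spec hj').1) (H.T_lt (by norm_num) (iv_spec hj').1)]
        refine ⟨_, ?_, rfl⟩
        have hlt := H.T_lt (i := 288) (by norm_num) (iv_spec hj').1
        obtain ⟨-, -, -, a1, a2⟩ := iv_spec hlt
        unfold T at hlt a1 a2 ⊢
        rcases (show (288 / 288 = 0) ∨ (288 / 288 = 1) by omega) with h | h
        · norm_num at h
        rw [h, show Nat.beq 1 0 = false from rfl, cond_false] at hlt a1 a2 ⊢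
        set k := enc ((1 + iv j / 288) % 2) (Hayden.sS (p1 288) (p2 (iv j))) (Hayden.sS (p2 288) (p1 (iv j)))
        cases hb : Nat.beq (k / 288) 0
        · rw [cond_false]
          obtain ⟨h1, h2, -⟩ := enc_spec (e := (1 + k / 288) % 2) (Nat.mod_lt _ (by norm_num)) (slm_mul a1 a2).1
            (slm_mul a2 a1).1
          have : k / 288 ≠ 0 := fun e => by rw [e] at hb; exact Bool.noConfusion hb
          omega
        · rw [cond_true]
          obtain ⟨h1, h2, -⟩ := enc_spec (e := k / 288) (by omega) (slm_mul a1 a1).1 (slm_mul a2 a2).1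
          have := Nat.eq_of_beq_eq_true hb
          omega
      have : (o * o) ^ (n + 1) = o := by
        rw [← pow_two, ← pow_mul, show 2 * (n + 1) = 2 * n + 1 + 1 by ring, pow_succ, ho1, one_mul]
      rw [← this]
      exact pow_mem h2 _
    have : el φ s 288 ∈ M := e ▸ mul_mem hM ⟨j, hj, rfl⟩
    obtain ⟨i, hi, he⟩ := this
    have := H.el_inj (hi.trans (by norm_num)) (by norm_num) he
    omega
  obtain ⟨o, ho, i, hi, rfl⟩ := hdec b
  have ho' : o ∈ O ⊔ M := Subgroup.mem_sup_left ho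
  rw [Subgroup.mul_mem_cancel_left _ (ho' : o ∈ O ⊔ M), mul_assoc, Subgroup.mul_mem_cancel_left _ ho']
  by_cases h : i < 288
  · have hM : el φ s i ∈ O ⊔ M := Subgroup.mem_sup_right ⟨i, h, rfl⟩
    rw [Subgroup.mul_mem_cancel_left _ hM]
    exact Or.inr ⟨hM, hs⟩
  · have hM : el φ s i * el φ s 288 ∈ O ⊔ M := by
      refine Subgroup.mem_sup_right ⟨T i 288, ?_, (H.el_mul hi (by norm_num)).symm⟩
      obtain ⟨-, -, -, a1, a2⟩ := iv_spec hi
      obtain ⟨-, -, -, b1, b2⟩ := iv_spec (i := 288) (by norm_num)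
      unfold T
      rw [show i / 288 = 1 by omega, show Nat.beq 1 0 = false from rfl, cond_false]
      obtain ⟨h1, h2, -⟩ := enc_spec (e := (1 + 288 / 288) % 2) (by norm_num) (slm_mul a1 b2).1 (slm_mul a2 b1).1
      omega
    refine Or.inl ⟨hM, fun h' => hs ?_⟩
    exact (Subgroup.mul_mem_cancel_left _ h').1 hM

/-- Without a subgroup of index two, `t` is fused to the exchange or to its product with `t`. -/
theorem exists_conf (hG : ∀ K : Subgroup G, K.index ≠ 2) : ∃ s', Conf φ s' := by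
  obtain ⟨v, hv, h0, h1, g, hg⟩ := H.exists_fused hG
  obtain ⟨n, c, hc, hn⟩ := H.exists_mover hv hg
  have hU := H.not_six hc
  rw [hn] at hU
  have ho := c_orbits
  simp only [Bool.and_eq_true, allF_iff, anyF_iff, beq_iff] at ho
  have hcases : ∀ v < 16, v = 0 ∨ v = 1 ∨ v ∈ U6 ∨ v ∈ [2, 7, 11, 15] ∨ v ∈ [3, 6, 10, 14] := by decide
  have key : ∀ a ∈ a4, ∃ m, m * φ (slm 3) * m⁻¹ = ep φ s (ap a v) := fun a ha => by
    obtain ⟨i, hi, -, hia⟩ := H.a4_real ha
    refine ⟨el φ s i * g, ?_⟩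
    rw [← hia.2 v hv, ← hg]
    group
  rcases hcases v hv with h | h | h | h | h
  · exact absurd h h0
  · exact absurd h h1
  · exact absurd h hU
  · obtain ⟨a, ha, hav⟩ := ho.1.1.2 v h
    obtain ⟨m, hm⟩ := key a ha
    rw [hav, H.ep_two] at hm
    exact ⟨s, H, m, hm⟩
  · obtain ⟨a, ha, hav⟩ := ho.1.2 v h
    obtain ⟨m, hm⟩ := key a ha
    have e3 : ep φ s (Nat.xor 2 1) = s * φ (slm 3) := by
      rw [← H.ep_mul (by norm_num) (by norm_num), H.ep_two, H.ep_one]
    rw [hav, show ep φ s 3 = s * φ (slm 3) from e3] at hm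
    exact ⟨_, H.swap, m, hm⟩

end Hyp

namespace Conf

variable {φ : SL3 →* G} {s : G} (C : Conf φ s)
include C

theorem exists_two : ∃ n c, Act φ s n c ∧ nib c 0 = 2 ∧ c ∈ surv := by
  obtain ⟨g, hg⟩ := C.fused
  obtain ⟨n, c, hc, h2⟩ := C.exists_mover (v := 2) (by norm_num) (g := g) (by rw [hg, C.ep_two])
  refine ⟨n, c, hc, h2, ?_⟩
  have e := code_split hc.1
  rw [h2] at e
  have h := allN_spec (allN_spec (allN_spec c_move_two _ (nib_lt c 1)) _ (nib_lt c 2)) _ (nib_lt c 3)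
  rw [← e, C.indep_of_act hc, C.not_killed hc (by decide +kernel)] at h
  simpa [memF_iff] using h

/-- Every conjugate of `t` in `E` is among the five. -/
theorem mover_mem {n : G} {c : ℕ} (h : Act φ s n c) : nib c 0 ∈ P5 := by
  have hcases : ∀ v < 16, v = 0 ∨ v ∈ P5 ∨ v ∈ U6 ∨ v ∈ [3, 6, 10, 14] := by decide
  rcases hcases _ (nib_lt c 0) with h0 | h0 | h0 | h0
  · refine absurd ?_ C.t_ne
    have := C.mover_conj h
    rw [h0, C.ep_zero] at this
    rw [← conj_back this]; group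
  · exact h0
  · exact absurd h0 (C.not_six h)
  · exfalso
    have ho := c_orbits
    simp only [Bool.and_eq_true, allF_iff, anyF_iff, beq_iff] at ho
    obtain ⟨a, ha, hav⟩ := ho.1.2 _ h0
    obtain ⟨n0, f, hf, hf2, hfs⟩ := C.exists_two
    have hs := allF_iff.1 c_surv f hfs
    simp only [Bool.and_eq_true, anyF_iff, memF_iff] at hs
    obtain ⟨b, hb, hbU⟩ := hs.1.1
    obtain ⟨i, -, -, hi⟩ := C.a4_real ha
    obtain ⟨j, -, -, hj⟩ := C.a4_real hb
    have hm := C.act_mul hf (C.act_mul hj (C.act_mul hi h))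
    refine C.not_six hm ?_
    rw [← (ap_basis _).2.1, C.ap_cmp hf (C.act_mul hj (C.act_mul hi h)) (by norm_num),
      C.ap_cmp hj (C.act_mul hi h) (by norm_num), C.ap_cmp hi h (by norm_num), (ap_basis c).2.1, hav]
    exact hbU

/-- Every map of the normaliser is among the sixty. -/
theorem code_mem {n : G} {c : ℕ} (h : Act φ s n c) : c ∈ r60 := by
  have h5 := C.mover_mem h
  by_cases h1 : nib c 0 = 1
  · have := allF_iff.1 c_a4 c (C.fix_mem_a4 h h1).1
    simp only [Bool.and_eq_true, memF_iff] at this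
    exact this.1
  have hcases : ∀ v ∈ P5, v = 1 ∨ v ∈ [2, 7, 11, 15] := by decide
  have ho := c_orbits
  simp only [Bool.and_eq_true, allF_iff, anyF_iff, beq_iff] at ho
  obtain ⟨a, ha, hav⟩ := ho.1.1.2 _ ((hcases _ h5).resolve_left h1)
  obtain ⟨i, hi, -, hia⟩ := C.a4_real ha
  have hm := C.act_mul hia h
  have h2 : nib (cmp a c) 0 = 2 := by
    rw [← (ap_basis _).2.1, C.ap_cmp hia h (by norm_num), (ap_basis c).2.1, hav]
  have e := code_split hm.1
  rw [h2] at e
  have hsv := allN_spec (allN_spec (allN_spec c_move_two _ (nib_lt (cmp a c) 1)) _ (nib_lt (cmp a c) 2)) _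
    (nib_lt (cmp a c) 3)
  rw [← e, C.indep_of_act hm, C.not_killed hm (by decide +kernel)] at hsv
  simp only [Bool.not_true, Bool.false_or, Bool.or_false, memF_iff] at hsv
  obtain ⟨d, hd, hdi⟩ := C.act_inv hia
  have hd1 : nib d 0 = 1 := by
    have := hdi 1 (by norm_num)
    rwa [(ap_basis a).2.1, C.act_a4_nib ha, (ap_basis d).2.1] at this
  have hda := (C.fix_mem_a4 hd hd1).1
  have hs := allF_iff.1 c_surv _ hsv
  simp only [Bool.and_eq_true, allF_iff, memF_iff] at hs
  have hm' := C.act_mul hd hm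
  rw [inv_mul_cancel_left] at hm'
  rw [C.act_unique h hm']
  exact hs.1.2 d hda

/-- A subgroup containing `C(t)` and a map moving `t` contains a realiser of each map. -/
theorem realise_mem {M : Subgroup G} (hel : ∀ i < 576, el φ s i ∈ M) {n0 : G} {c0 : ℕ} (hn0 : n0 ∈ M)
    (hc0 : Act φ s n0 c0) (h0 : nib c0 0 ≠ 1) {r : ℕ} (hr : r ∈ r60) : ∃ m ∈ M, Act φ s m r := by
  have hg := c_gen
  simp only [Bool.and_eq_true, allF_iff, Bool.or_eq_true, anyF_iff, memF_iff, beq_iff] at hg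
  rcases hg.2 r hr with h | ⟨a, ha, b, hb, rfl⟩
  · obtain ⟨i, hi, -, hia⟩ := C.a4_real h
    exact ⟨_, hel i hi, hia⟩
  · rcases hg.1 c0 (C.code_mem hc0) with h | ⟨a', ha', b', hb', e⟩
    · exact absurd (C.act_a4_nib h) h0
    obtain ⟨i, hi, -, hia⟩ := C.a4_real ha
    obtain ⟨j, hj, -, hja⟩ := C.a4_real hb
    obtain ⟨i', hi', -, hia'⟩ := C.a4_real ha'
    obtain ⟨j', hj', -, hja'⟩ := C.a4_real hb'
    have h18 := C.act_mul hia' (C.act_mul hc0 hja')
    rw [e] at h18
    exact ⟨_, mul_mem (hel i hi) (mul_mem (mul_mem (hel i' hi') (mul_mem hn0 (hel j' hj'))) (hel j hj)),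
      C.act_mul hia (C.act_mul h18 hja)⟩

/-- Such a subgroup contains the normaliser of `E`. -/
theorem ne_mem {M : Subgroup G} (hel : ∀ i < 576, el φ s i ∈ M) {n0 : G} {c0 : ℕ} (hn0 : n0 ∈ M)
    (hc0 : Act φ s n0 c0) (h0 : nib c0 0 ≠ 1) {n : G} (hn : NE φ s n) : n ∈ M := by
  obtain ⟨c, hc⟩ := C.exists_code hn
  obtain ⟨m, hm, hma⟩ := C.realise_mem hel hn0 hc0 h0 (C.code_mem hc)
  have e : Commute (m⁻¹ * n) (φ (slm 3)) := by
    have h := (hc.2 1 (by norm_num)).trans (hma.2 1 (by norm_num)).symm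
    rw [C.ep_one] at h
    show _ = _
    calc m⁻¹ * n * φ (slm 3) = m⁻¹ * (n * φ (slm 3) * n⁻¹) * n := by group
      _ = φ (slm 3) * (m⁻¹ * n) := by rw [h]; group
  obtain ⟨i, hi, he⟩ := C.eq_el e
  rw [show n = m * el φ s i by rw [he]; group]
  exact mul_mem hm (hel i hi)

theorem exists_realise {r : ℕ} (hr : r ∈ r60) : ∃ m, Act φ s m r := by
  obtain ⟨n0, c0, hc0, h2, -⟩ := C.exists_two
  obtain ⟨m, -, hm⟩ := C.realise_mem (M := ⊤) (fun i _ => trivial) (n0 := n0) trivial hc0 (by omega) hr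
  exact ⟨m, hm⟩

theorem tconj_P5 {x : ℕ} (hx : x ∈ P5) : TConj φ (ep φ s x) := by
  have h := c_r60
  simp only [Bool.and_eq_true, allF_iff, anyF_iff, beq_iff] at h
  obtain ⟨r, hr, hrx⟩ := h.1.1.1.1.1.1 x hx
  obtain ⟨m, hm⟩ := C.exists_realise hr
  have := C.tconj_mover hm
  rwa [← (ap_basis r).2.1, hrx] at this

theorem mem_P5_of_tconj {v : ℕ} (hv : v < 16) (h : TConj φ (ep φ s v)) : v ∈ P5 := by
  obtain ⟨g, hg⟩ := h
  obtain ⟨n, c, hc, e⟩ := C.exists_mover hv hg
  exact e ▸ C.mover_mem hc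

theorem not_tconj {v : ℕ} (hv : v ∈ P10) : ¬ TConj φ (ep φ s v) := fun h =>
  (P10_lt v hv).2.2.2 (C.mem_P5_of_tconj (P10_lt v hv).1 h)

theorem not_tconj_clsU {i : ℕ} (hi : i < 576) (h : clsU i = true) : ¬ TConj φ (el φ s i) := by
  obtain ⟨g, hg, hp⟩ := anyF_iff.1 h
  have hg' : g < 576 := by
    simp only [List.mem_cons, List.not_mem_nil, or_false] at hg
    omega
  rw [memF_iff] at hp
  intro hT
  refine C.not_tconj (U6_P10 _ hp) ?_
  have := hT.conj (el φ s g)
  rwa [C.el_cj hg' hi, ← posE_spec (C.cj_lt hg' hi) (P10_lt _ (U6_P10 _ hp)).1] at this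

/-- The centraliser of a point of the five and of another point normalises `E`. -/
theorem cent_pt {x v : ℕ} (hx : x ∈ P5) (hv : v < 16) (h0 : v ≠ 0) (hne : v ≠ x) {g : G}
    (h1 : Commute g (ep φ s x)) (h2 : Commute g (ep φ s v)) : NE φ s g := by
  have h := c_r60
  simp only [Bool.and_eq_true, allF_iff, anyF_iff, beq_iff] at h
  obtain ⟨r, hr, hrx⟩ := h.1.1.1.1.2 x hx
  obtain ⟨m, hm⟩ := C.exists_realise hr
  have e1 := commute_conj h1 m
  rw [hm.2 x (P5_lt x hx).1, hrx, C.ep_one] at e1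
  obtain ⟨i, hi, he⟩ := C.eq_el e1
  have e2 := commute_conj h2 m
  rw [hm.2 v hv, ← he, C.comm_ep_iff hi (ap_lt r v)] at e2
  have hlt : ¬ ap r v ≤ 1 := fun hle => by
    rcases Nat.le_one_iff_eq_zero_or_eq_one.1 hle with e | e
    · refine C.ep_ne_one hv h0 ?_
      rw [← conj_back (hm.2 v hv), e, C.ep_zero]; group
    · refine hne (C.ep_inj hv (P5_lt x hx).1 ?_)
      rw [← conj_back (hm.2 v hv), ← conj_back (hm.2 x (P5_lt x hx).1), e, hrx]
  have hn := allN_spec (allN_spec c_cent_nrm _ (ap_lt r v) |> fun h => by simpa [hlt] using h) i hi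
  rw [e2] at hn
  have hN : NE φ s (m * g * m⁻¹) := he ▸ (C.act_el hi (by simpa using hn)).ne
  rw [show g = m⁻¹ * (m * g * m⁻¹) * m by group]
  exact C.ne_mul (C.ne_mul (C.ne_inv hm.ne) hN) hm.ne

/-- An involution of the normaliser conjugate to `t` lies in `E`. -/
theorem inv_normalizer {y : G} (hy : NE φ s y) (hy2 : y * y = 1) (hyT : TConj φ y) :
    ∃ x ∈ P5, y = ep φ s x := by
  obtain ⟨c, hc⟩ := C.exists_code hy
  have hid : Act φ s (y * y) 33825 := ⟨by norm_num, fun v hv => by rw [hy2, ap_id v hv]; group⟩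
  have hf := allF_iff.1 c_fix c (C.code_mem hc)
  rw [show cmp c c = 33825 from C.act_unique (C.act_mul hc hc) hid] at hf
  simp only [Nat.beq_refl, Bool.not_true, Bool.false_or, anyF_iff, beq_iff] at hf
  obtain ⟨x, hx, hcx⟩ := hf
  have h := c_r60
  simp only [Bool.and_eq_true, allF_iff, anyF_iff, beq_iff] at h
  obtain ⟨r, hr, hrx⟩ := h.1.1.1.1.2 x hx
  obtain ⟨m, hm⟩ := C.exists_realise hr
  obtain ⟨d, hd, hdi⟩ := C.act_inv hm
  have e1 : Commute y (ep φ s x) := by
    refine mul_inv_eq_iff_eq_mul.1 ?_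
    rw [hc.2 x (P5_lt x hx).1, hcx]
  have e2 := commute_conj e1 m
  rw [hm.2 x (P5_lt x hx).1, hrx, C.ep_one] at e2
  obtain ⟨i, hi, he⟩ := C.eq_el e2
  have hI : isInv i = true := by
    rw [← C.isInv_iff hi, he, BrauerSuzuki.orderOf_conj_eq]
    refine orderOf_eq_prime (by rw [pow_two]; exact hy2) fun h1 => ?_
    obtain ⟨k, hk⟩ := hyT
    exact C.t_ne (by rw [← conj_back hk, h1]; group)
  have hn := C.nrm_of_ne hi (he ▸ C.ne_mul (C.ne_mul hm.ne hy) (C.ne_inv hm.ne))
  have h' := allN_spec c_nrm_inv i hi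
  rw [hI, hn] at h'
  simp only [Bool.and_self, Bool.not_true, Bool.false_or, Bool.or_eq_true, Nat.blt_eq] at h'
  rcases h' with h' | h'
  · have hye : y = ep φ s (ap d (posE i)) := by
      rw [← hd.2 _ h', show ep φ s (posE i) = el φ s i from congrArg _ (posE_spec hi h'), he]
      group
    exact ⟨_, C.mem_P5_of_tconj (ap_lt _ _) (hye ▸ hyT), hye⟩
  · exact absurd (he ▸ hyT.conj m) (C.not_tconj_clsU hi h')

theorem ne_conj {g m : G} (hm : NE φ s m) (h : NE φ s (m * g * m⁻¹)) : NE φ s g := by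
  rw [show g = m⁻¹ * (m * g * m⁻¹) * m by group]
  exact C.ne_mul (C.ne_mul (C.ne_inv hm) h) hm

/-- An element of the normaliser fixing two points of `E` as `z` and `4` above fixes `E`. -/
theorem mem_E {g : G} {z : ℕ} (hz : z ∈ P10) (hz4 : z ≠ 4) (hz' : Nat.xor z 4 ∈ P10) (hg : NE φ s g)
    (h1 : Commute g (ep φ s 4)) (h2 : Commute g (ep φ s z)) : ∃ v < 16, g = ep φ s v := by
  obtain ⟨c, hc⟩ := C.exists_code hg
  have h := allF_iff.1 c_pure z hz
  simp only [Bool.or_eq_true, beq_iff, Bool.and_eq_true, allF_iff, memF_iff, Bool.not_eq_true',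
    Bool.eq_false_iff, ne_eq] at h
  obtain ⟨hid, -⟩ := (h.resolve_left fun h => h.elim hz4 fun h => h hz')
  have e4 : ap c 4 = 4 := C.ep_inj (ap_lt c 4) (by norm_num) (by
    rw [← hc.2 4 (by norm_num), h1.eq, mul_inv_cancel_right])
  have ez : ap c z = z := C.ep_inj (ap_lt c z) (P10_lt z hz).1 (by
    rw [← hc.2 z (P10_lt z hz).1, h2.eq, mul_inv_cancel_right])
  have hc' : c = 33825 := (hid c (C.code_mem hc)).resolve_left fun h => h ⟨e4, ez⟩
  subst hc'
  obtain ⟨i, hi, he⟩ := C.eq_el (g := g) (by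
    refine mul_inv_eq_iff_eq_mul.1 ?_
    rw [← C.ep_one, hc.2 1 (by norm_num), ap_id 1 (by norm_num)])
  subst he
  have hn := C.nrm_of_ne hi hg
  have h' := allN_spec c_cent_E i hi
  rw [hn, C.act_unique (C.act_el hi hn) hc] at h'
  simp only [Bool.not_true, Bool.false_or, Nat.beq_refl, Nat.blt_eq] at h'
  exact ⟨_, h', by rw [ep, posE_spec hi h']⟩

variable [Finite G]

/-- The centraliser of a pure four group lies in `E`. -/
theorem cent_pure {z : ℕ} (hz : z ∈ P10) (hz4 : z ≠ 4) (hz' : Nat.xor z 4 ∈ P10) {g : G}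
    (h1 : Commute g (ep φ s 4)) (h2 : Commute g (ep φ s z)) : NE φ s g := by
  have hzl := (P10_lt z hz).1
  let S : Subgroup G :=
    { carrier := {g | ∃ v < 16, g = ep φ s v}
      one_mem' := ⟨0, by norm_num, C.ep_zero.symm⟩
      mul_mem' := fun {a b} ⟨v, hv, e⟩ ⟨w, hw, e'⟩ => ⟨_, xor_lt hv hw, by rw [e, e', C.ep_mul hv hw]⟩
      inv_mem' := fun {a} ⟨v, hv, e⟩ =>
        ⟨v, hv, by rw [e]; exact inv_eq_of_mul_eq_one_right (C.ep_sq hv)⟩ }
  set L := Subgroup.centralizer ({ep φ s 4, ep φ s z} : Set G)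
  have memL : ∀ {g}, g ∈ L ↔ Commute g (ep φ s 4) ∧ Commute g (ep φ s z) := fun {g} => by
    simp only [L, Subgroup.mem_centralizer_iff, Set.mem_insert_iff, Set.mem_singleton_iff, forall_eq_or_imp,
      forall_eq]
    exact ⟨fun h => ⟨h.1.symm, h.2.symm⟩, fun h => ⟨h.1.symm, h.2.symm⟩⟩
  have hSL : S ≤ L := by
    rintro _ ⟨v, hv, rfl⟩
    exact memL.2 ⟨C.ep_comm hv (by norm_num), C.ep_comm hv hzl⟩
  have hS2 : IsPGroup 2 S := fun a => ⟨1, Subtype.ext (by
    obtain ⟨v, hv, e⟩ := a.2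
    show (a : G) ^ 2 ^ 1 = 1
    rw [e, pow_one, pow_two, C.ep_sq hv])⟩
  have hin : ∀ g ∈ L, NE φ s g → g ∈ S := fun g hg hn =>
    C.mem_E hz hz4 hz' hn (memL.1 hg).1 (memL.1 hg).2
  have hNS : ∀ g ∈ L, (∀ x ∈ S, g * x * g⁻¹ ∈ S) → g ∈ S := fun g hg hx =>
    hin g hg fun v hv => hx _ ⟨v, hv, rfl⟩
  obtain ⟨O, hOL, hodd, hOn, hdec, -⟩ := exists_odd_complement hSL hS2 (fun g hg hx _ => hNS g hg hx)
    fun g hg hx x hxS => by
      obtain ⟨v, hv, rfl⟩ := hNS g hg hx
      obtain ⟨w, hw, rfl⟩ := hxS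
      rw [(C.ep_comm hv hw).eq, mul_inv_cancel_right]
  have hfix : ∀ x ∈ P5, ∀ o ∈ O, Commute o (ep φ s x) → o = 1 := by
    intro x hx o ho hc
    have hne : (4 : ℕ) ≠ x := fun e => by subst e; exact absurd hx (by decide)
    obtain ⟨v, hv, rfl⟩ := hin o (hOL ho) (C.cent_pt hx (by norm_num) (by norm_num) hne hc (memL.1 (hOL ho)).1)
    exact eq_one_of_sq_of_odd hodd (C.ep_sq hv) (pow_card_of_mem ho)
  have hinv : ∀ x ∈ P5, ∀ o ∈ O, ep φ s x * o * (ep φ s x)⁻¹ = o⁻¹ := by
    intro x hx o ho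
    have hxS : ep φ s x ∈ L := hSL ⟨x, (P5_lt x hx).1, rfl⟩
    have := (abelian_mod (σ := ep φ s x) bot_le hodd (C.ep_sq (P5_lt x hx).1) (fun o ho => hOn _ hxS o ho)
      (fun z hz => by rw [Subgroup.mem_bot.1 hz]; group) (fun z hz o _ => by rw [Subgroup.mem_bot.1 hz]; simp)
      (fun o ho e => Subgroup.mem_bot.2 (hfix x hx o ho (mul_inv_eq_iff_eq_mul.1 e).symm))).2 o ho
    exact eq_inv_of_mul_eq_one_left (Subgroup.mem_bot.1 this)
  have h := allF_iff.1 c_pure z hz
  simp only [Bool.or_eq_true, beq_iff, Bool.and_eq_true, anyF_iff, memF_iff, Bool.not_eq_true',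
    Bool.eq_false_iff, ne_eq] at h
  obtain ⟨-, a, ha, b, hb, -, τ, hτ, hx⟩ := (h.resolve_left fun h => h.elim hz4 fun h => h hz')
  have hτl : τ < 16 := by
    simp only [List.mem_cons, List.not_mem_nil, or_false] at hτ
    rcases hτ with rfl | rfl | rfl | rfl
    exacts [by norm_num, by norm_num, hzl, xor_lt hzl (by norm_num)]
  have hτc : ∀ o ∈ O, Commute o (ep φ s τ) := fun o ho => by
    have h' := memL.1 (hOL ho)
    simp only [List.mem_cons, List.not_mem_nil, or_false] at hτ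
    rcases hτ with rfl | rfl | rfl | rfl
    · rw [C.ep_zero]; exact Commute.one_right o
    · exact h'.1
    · exact h'.2
    · rw [← C.ep_mul hzl (by norm_num)]; exact h'.2.mul_right h'.1
  have hal := (P5_lt a ha).1
  have hbl := (P5_lt b hb).1
  have hO : ∀ o ∈ O, o = 1 := fun o ho => by
    refine hfix _ hx o ho ?_
    rw [← C.ep_mul (xor_lt hal hbl) hτl, ← C.ep_mul hal hbl]
    refine Commute.mul_right (mul_inv_eq_iff_eq_mul.1 ?_).symm (hτc o ho)
    calc ep φ s a * ep φ s b * o * (ep φ s a * ep φ s b)⁻¹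
        = ep φ s a * (ep φ s b * o * (ep φ s b)⁻¹) * (ep φ s a)⁻¹ := by group
      _ = (ep φ s a * o * (ep φ s a)⁻¹)⁻¹ := by rw [hinv b hb o ho]; group
      _ = o := by rw [hinv a ha o ho, inv_inv]
  obtain ⟨o, ho, x, ⟨v, hv, rfl⟩, rfl⟩ := hdec g (memL.2 ⟨h1, h2⟩)
  rw [hO o ho, one_mul]
  intro w hw
  exact ⟨w, hw, by rw [(C.ep_comm hv hw).eq, mul_inv_cancel_right]⟩

/-- No element centralising the fourth point sends the eleventh to `t`. -/
theorem no_eleven {k : G} (hk : Commute k (ep φ s 4)) : k * ep φ s 11 * k⁻¹ ≠ φ (slm 3) := by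
  intro he
  have h := c_r60
  simp only [Bool.and_eq_true, allF_iff, anyF_iff, beq_iff, memF_iff] at h
  obtain ⟨r, hr, hr11, hr4⟩ := h.1.1.1.2
  obtain ⟨m, hm⟩ := C.exists_realise hr
  obtain ⟨j, hj, hj'⟩ := anyN_spec (allF_iff.1 c_three _ hr4)
  simp only [Bool.and_eq_true, beq_iff, Bool.not_eq_true', Bool.eq_false_iff, ne_eq] at hj'
  obtain ⟨⟨hjc, hj0⟩, hj3⟩ := hj'
  set q := k * (m⁻¹ * el φ s j * m) * k⁻¹
  have hq4 : Commute q (ep φ s 4) := by
    have e1 : Commute (el φ s j) (ep φ s (ap r 4)) := (C.comm_ep_iff hj (ap_lt r 4)).2 hjc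
    have e2 := commute_conj e1 m⁻¹
    rw [inv_inv, conj_back (hm.2 4 (by norm_num))] at e2
    have e3 := commute_conj e2 k
    rwa [hk.eq, mul_inv_cancel_right] at e3
  have hqt : Commute q (φ (slm 3)) := by
    have e2 := commute_conj (C.commutes hj : Commute (el φ s j) (φ (slm 3))) m⁻¹
    rw [inv_inv, ← C.ep_one, ← hr11, conj_back (hm.2 11 (by norm_num))] at e2
    have e3 := commute_conj e2 k
    rwa [he] at e3
  obtain ⟨i, hi, hie⟩ := C.eq_el hqt
  rw [← hie, C.comm_ep_iff hi (by norm_num)] at hq4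
  have h' := allN_spec c_cent_four i hi
  rw [hq4] at h'
  simp only [Bool.not_true, Bool.false_or, Bool.and_eq_true, Bool.or_eq_true, beq_iff, Bool.not_eq_true',
    Bool.eq_false_iff, ne_eq] at h'
  have hne : el φ s i ≠ 1 := fun e1 => hj0 ((C.el_eq_one hj).1 (by
    rw [e1] at hie
    calc el φ s j = m * k⁻¹ * q * (m * k⁻¹)⁻¹ := by simp only [q]; group
      _ = 1 := by rw [← hie]; group))
  have hi3 : T (T i i) i = 0 := by
    rw [← C.el_eq_one (C.T_lt (C.T_lt hi hi) hi), ← C.el_mul (C.T_lt hi hi) hi, ← C.el_mul hi hi, hie]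
    have e3 : el φ s j * el φ s j * el φ s j = 1 := by
      rw [C.el_mul hj hj, C.el_mul (C.T_lt hj hj) hj, hj3, C.el_zero]
    calc q * q * q = k * m⁻¹ * (el φ s j * el φ s j * el φ s j) * m * k⁻¹ := by simp only [q]; group
      _ = 1 := by rw [e3]; group
  rcases h'.2 with h0 | h3
  · exact hne (h0 ▸ C.el_zero)
  · exact h3 hi3

/-- Nor the fifteenth. -/
theorem no_fifteen {k : G} (hk : Commute k (ep φ s 4)) : k * ep φ s 15 * k⁻¹ ≠ φ (slm 3) := by
  intro he
  have h := c_r60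
  simp only [Bool.and_eq_true, allF_iff, anyF_iff, beq_iff] at h
  obtain ⟨r, hr, ⟨hr4, hr11⟩, -⟩ := h.1.2
  obtain ⟨m, hm⟩ := C.exists_realise hr
  have hm4 : Commute m (ep φ s 4) := by
    refine mul_inv_eq_iff_eq_mul.1 ?_
    rw [hm.2 4 (by norm_num), hr4]
  refine C.no_eleven (hk.mul_left hm4) ?_
  rw [← he, ← hr11, ← hm.2 11 (by norm_num)]
  group

/-- The centraliser of the fourth point normalises `E`. -/
theorem cent_four {k : G} (hk : Commute k (ep φ s 4)) : NE φ s k := by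
  set u := ep φ s 4 with hu
  set t := φ (slm 3) with ht
  set y := k * ep φ s 11 * k⁻¹ with hy
  have h4 : (4 : ℕ) ∈ P10 := by decide
  have hy2 : y * y = 1 := by
    calc y * y = k * (ep φ s 11 * ep φ s 11) * k⁻¹ := by rw [hy]; group
      _ = 1 := by rw [C.ep_sq (by norm_num)]; group
  have hyu : Commute y u := by
    have := commute_conj (C.ep_comm (v := 11) (w := 4) (by norm_num) (by norm_num)) k
    rwa [hk.eq, mul_inv_cancel_right] at this
  have hyT : TConj φ y := (C.tconj_P5 (by decide : (11 : ℕ) ∈ P5)).conj k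
  have htu : Commute t u := by rw [ht, ← C.ep_one]; exact C.ep_comm (by norm_num) (by norm_num)
  have hcu : ∀ c ∈ Subgroup.zpowers (t * y), Commute c u := fun c hc => by
    obtain ⟨n, rfl⟩ := Subgroup.mem_zpowers_iff.1 hc
    exact (htu.mul_left hyu).zpow_left n
  have hyN : NE φ s y := by
    rcases pair_cases C.t_sq hy2 with ⟨c, hc, he⟩ | ⟨z, hzz, hz2, hz1, hzt, hzy, c, hc, he⟩
    · refine absurd ?_ (C.no_eleven ((hcu c hc).inv_left.mul_left hk))
      rw [← conj_back he, hy]; group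
    have hzu := hcu z hzz
    by_cases hzu' : z = u
    · exfalso
      subst hzu'
      rcases he with he | he
      · refine C.not_tconj (v := 5) (by decide) ⟨c, ?_⟩
        rw [he, hu, ← C.ep_one, C.ep_mul (by norm_num) (by norm_num)]
        rfl
      · refine C.no_fifteen ((hcu c hc).inv_left.mul_left hk) ?_
        have e15 : k * ep φ s 15 * k⁻¹ = u * y := by
          have e : k * (u * ep φ s 11) * k⁻¹ = (k * u * k⁻¹) * y := by rw [hy]; group
          rw [hk.eq, mul_inv_cancel_right, hu, C.ep_mul (by norm_num) (by norm_num)] at e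
          exact e
        rw [← conj_back he, ← e15]
        group
    obtain ⟨i, hi, rfl⟩ := C.eq_el hzt
    have hiI : isInv i = true := by
      rw [← C.isInv_iff hi]
      exact orderOf_eq_prime (by rw [pow_two]; exact hz2) hz1
    by_cases hp : posE i < 16
    · set v := posE i
      have hve : el φ s i = ep φ s v := by rw [ep, posE_spec hi hp]
      rw [hve] at hzy hzu' hz1
      have hv0 : v ≠ 0 := fun e => hz1 (by rw [e, C.ep_zero])
      have hv4 : v ≠ 4 := fun e => hzu' (by rw [e])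
      have hx4 : Nat.xor v 4 < 16 := xor_lt hp (by norm_num)
      have hx0 : Nat.xor v 4 ≠ 0 := fun e => hv4 (Nat.xor_eq_zero_iff.1 e)
      rcases points v hp with h | h | h
      · exact absurd h hv0
      · exact C.cent_pt h (by norm_num) (by norm_num) (Ne.symm hv4) hzy.symm hyu
      rcases points _ hx4 with h' | h' | h'
      · exact absurd h' hx0
      · refine C.cent_pt h' (by norm_num) (by norm_num) (fun e => ?_) ?_ hyu
        · rw [← e] at h'
          exact (P10_lt 4 h4).2.2.2 h'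
        · rw [← C.ep_mul hp (by norm_num)]; exact hzy.symm.mul_right hyu
      · exact C.cent_pure h hv4 h' hyu hzy.symm
    · exfalso
      set L := Subgroup.centralizer ({el φ s i, u} : Set G)
      set S := L ⊓ Subgroup.centralizer ({t} : Set G)
      have memL : ∀ {g}, g ∈ L ↔ Commute g (el φ s i) ∧ Commute g u := fun {g} => by
        simp only [L, Subgroup.mem_centralizer_iff, Set.mem_insert_iff, Set.mem_singleton_iff, forall_eq_or_imp,
          forall_eq]
        exact ⟨fun h => ⟨h.1.symm, h.2.symm⟩, fun h => ⟨h.1.symm, h.2.symm⟩⟩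
      have memS : ∀ {g}, g ∈ S ↔ (Commute g (el φ s i) ∧ Commute g u) ∧ Commute g t := fun {g} => by
        simp only [S, Subgroup.mem_inf, memL, Subgroup.mem_centralizer_iff, Set.mem_singleton_iff, forall_eq]
        exact ⟨fun h => ⟨h.1, h.2.symm⟩, fun h => ⟨h.1, h.2.symm⟩⟩
      have hiu : cm i (EL 4) = true := (C.comm_ep_iff hi (by norm_num)).1 hzu
      have hd := allN_spec c_delta i hi
      rw [hiI, hiu, show Nat.blt (posE i) 16 = false by rw [Bool.eq_false_iff, ne_eq, Nat.blt_eq]; exact hp] at hd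
      simp only [Bool.and_self, Bool.not_true, Bool.false_or] at hd
      have key : ∀ g ∈ S, g * g * (g * g) = 1 ∧ (g * g = 1 → g ≠ 1 → TConj φ g → g = t) := by
        intro g hg
        obtain ⟨⟨g1, g2⟩, g3⟩ := memS.1 hg
        obtain ⟨h, hh, rfl⟩ := C.eq_el g3
        have hh' := allN_spec hd h hh
        rw [(C.el_comm_iff hh hi).1 g1, (C.comm_ep_iff hh (by norm_num)).1 g2] at hh'
        simp only [Bool.and_self, Bool.not_true, Bool.false_or, Bool.and_eq_true, beq_iff] at hh'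
        refine ⟨by rw [C.el_mul hh hh, C.el_mul (C.T_lt hh hh) (C.T_lt hh hh), hh'.1, C.el_zero], ?_⟩
        intro e2 e1 hT
        have hI : isInv h = true := by
          rw [← C.isInv_iff hh]
          exact orderOf_eq_prime (by rw [pow_two]; exact e2) e1
        rw [hI] at hh'
        simp only [Bool.not_true, Bool.false_or, Bool.or_eq_true, beq_iff, anyF_iff, memF_iff] at hh'
        rcases hh'.2 with e | ⟨g, hg, hgp⟩
        · rw [e]; exact C.el_three
        · exfalso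
          have hg' : g < 576 := by
            simp only [List.mem_cons, List.not_mem_nil, or_false] at hg
            omega
          refine C.not_tconj hgp ?_
          have := hT.conj (el φ s g)
          rwa [C.el_cj hg' hh, ← posE_spec (C.cj_lt hg' hh) (P10_lt _ hgp).1] at this
      have hS2 : IsPGroup 2 S := fun a => ⟨2, Subtype.ext (by
        show (a : G) ^ 2 ^ 2 = 1
        rw [show (2 : ℕ) ^ 2 = 2 * 2 from rfl, pow_mul, pow_two, pow_two]
        exact (key a a.2).1)⟩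
      have htS : t ∈ S := memS.2 ⟨⟨hzt.symm, htu⟩, Commute.refl t⟩
      obtain ⟨c', hc', hcy⟩ := exists_conj_mem (L := L) (S := S) inf_le_left hS2 (fun g hg hx _ => by
        have hgt : g * t * g⁻¹ = t := by
          refine (key _ (hx t htS)).2 ?_ ?_ ⟨g, rfl⟩
          · calc g * t * g⁻¹ * (g * t * g⁻¹) = g * (t * t) * g⁻¹ := by group
              _ = 1 := by rw [C.t_sq]; group
          · intro e
            refine C.t_ne ?_
            rw [show φ (slm 3) = g⁻¹ * (g * t * g⁻¹) * g by rw [ht]; group, e]; group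
        exact memS.2 ⟨memL.1 hg, mul_inv_eq_iff_eq_mul.1 hgt⟩)
        (memL.2 ⟨hzy.symm, hyu⟩) ⟨1, by rw [pow_one, pow_two, hy2]⟩
      refine C.no_eleven ((memL.1 hc').2.mul_left hk) ?_
      rw [show c' * k * ep φ s 11 * (c' * k)⁻¹ = c' * y * c'⁻¹ by rw [hy]; group]
      refine (key _ hcy).2 ?_ ?_ (hyT.conj c')
      · calc c' * y * c'⁻¹ * (c' * y * c'⁻¹) = c' * (y * y) * c'⁻¹ := by group
          _ = 1 := by rw [hy2]; group
      · intro e
        refine C.ep_ne_one (v := 11) (by norm_num) (by norm_num) ?_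
        rw [show ep φ s 11 = (c' * k)⁻¹ * (c' * y * c'⁻¹) * (c' * k) by rw [hy]; group, e]
        group
  obtain ⟨x, hx, hxe⟩ := C.inv_normalizer hyN hy2 hyT
  have h := c_r60
  simp only [Bool.and_eq_true, allF_iff, anyF_iff, beq_iff] at h
  have hcases : ∀ x ∈ P5, x ∈ [1, 2, 7] ∨ x = 11 ∨ x = 15 := by decide
  rcases hcases x hx with hx' | rfl | rfl
  · exfalso
    obtain ⟨r, hr, hr4, hr1⟩ := h.1.1.2 x hx'
    obtain ⟨m, hm⟩ := C.exists_realise hr
    have hm4 : Commute m u := by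
      refine mul_inv_eq_iff_eq_mul.1 ?_
      rw [hu, hm.2 4 (by norm_num), hr4]
    refine C.no_eleven (hm4.inv_left.mul_left hk) ?_
    rw [show m⁻¹ * k * ep φ s 11 * (m⁻¹ * k)⁻¹ = m⁻¹ * y * m by rw [hy]; group, hxe,
      ← hr1, conj_back (hm.2 1 (by norm_num)), C.ep_one]
  · refine C.cent_pt (by decide : (11 : ℕ) ∈ P5) (by norm_num) (by norm_num) (by norm_num) ?_ hk
    exact mul_inv_eq_iff_eq_mul.1 hxe
  · obtain ⟨r, hr, ⟨hr4, -⟩, hr15⟩ := h.1.2
    obtain ⟨m, hm⟩ := C.exists_realise hr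
    have hm4 : Commute m u := by
      refine mul_inv_eq_iff_eq_mul.1 ?_
      rw [hu, hm.2 4 (by norm_num), hr4]
    have hmk : NE φ s (m * k) := by
      refine C.cent_pt (by decide : (11 : ℕ) ∈ P5) (by norm_num) (by norm_num) (by norm_num) ?_ (hm4.mul_left hk)
      refine mul_inv_eq_iff_eq_mul.1 ?_
      rw [show m * k * ep φ s 11 * (m * k)⁻¹ = m * y * m⁻¹ by rw [hy]; group, hxe, hm.2 15 (by norm_num), hr15]
    rw [show k = m⁻¹ * (m * k) by group]
    exact C.ne_mul (C.ne_inv hm.ne) hmk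

/-- The centralisers of the ten points normalise `E`. -/
theorem cent_ten {v : ℕ} (hv : v ∈ P10) {g : G} (hg : Commute g (ep φ s v)) : NE φ s g := by
  have h := c_r60
  simp only [Bool.and_eq_true, allF_iff, anyF_iff, beq_iff] at h
  obtain ⟨r, hr, hrv⟩ := h.1.1.1.1.1.2 v hv
  obtain ⟨m, hm⟩ := C.exists_realise hr
  have e := commute_conj hg m⁻¹
  rw [inv_inv, ← hrv, conj_back (hm.2 4 (by norm_num))] at e
  exact C.ne_conj (C.ne_inv hm.ne) (by rw [inv_inv]; exact C.cent_four e)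

end Conf

end Cfsg.Agent.PspInv
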