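import Cfsg.Agent.Lib.PspInv.Root
import Cfsg.Agent.Lib.S3342Id.Rel

/-!
The characterisation of `PSp₄(3)` by the centraliser of a central involution.
-/

set_option autoImplicit false
set_option maxRecDepth 20000
set_option synthInstance.maxSize 10000
set_option linter.unusedSectionVars false
set_option linter.style.haveILetI false

namespace Cfsg.Agent.PspInv

open Cfsg.Agent.SpAmalgam Cfsg.Agent.SpAmalgam.Four
open Cfsg.Agent.Hayden (slm sS)
open Cfsg.Agent.Golay.Local (allF anyF memF allF_iff anyF_iff memF_iff)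

variable {G : Type*} [Group G] {φ : SL3 →* G} {s : G}

/-- Indices are compatible with homomorphisms. -/
theorem map_el {P : Type*} [Group P] (f : P →* G) (ψ : SL3 →* P) (u : P) (i : ℕ) :
    f (el ψ u i) = el (f.comp ψ) (f u) i := by
  simp only [el, map_mul, map_inv, map_pow, MonoidHom.comp_apply]

theorem psp_no_index_two : ∀ K : Subgroup (Cfsg.PSp 2 (ZMod 3)), K.index ≠ 2 := by
  intro K hK
  haveI : IsSimpleGroup (Cfsg.PSp 2 (ZMod 3)) :=
    Cfsg.Agent.S0270.result 2 le_rfl fun _ => le_of_eq (ZMod.card 3).symm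
  haveI := Subgroup.normal_of_index_eq_two hK
  rcases (inferInstance : K.Normal).eq_bot_or_eq_top with rfl | rfl
  · rw [Subgroup.index_bot] at hK
    have h := Subgroup.card_subgroup_dvd_card
      (Subgroup.centralizer ({φ0 (slm 3)} : Set (Cfsg.PSp 2 (ZMod 3))))
    rw [hK, hyp0.card] at h
    norm_num at h
  · rw [Subgroup.index_top] at hK
    norm_num at hK

namespace Conf

variable [Finite G] (C : Conf φ s)
include C

/-- A group with such a configuration is `PSp₄(3)`. -/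
theorem nonempty_iso : Nonempty (G ≃* Cfsg.PSp 2 (ZMod 3)) := by
  obtain ⟨f, hf, hfφ, hfs⟩ := C.exists_embed
  have hcomp : f.comp φ0 = φ := MonoidHom.ext hfφ
  have hfel : ∀ i, f (el φ0 s0 i) = el φ s i := fun i => by rw [map_el, hcomp, hfs]
  set M := f.range
  have hel : ∀ i < 576, el φ s i ∈ M := fun i _ => ⟨_, hfel i⟩
  -- a map of `E` moving `t`, inside the image
  obtain ⟨v, hv, -, hv1, g0, hg0⟩ := hyp0.exists_fused psp_no_index_two
  obtain ⟨n0, c0, hc0, hn0⟩ := hyp0.exists_mover hv hg0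
  have hact : Act φ s (f n0) c0 := ⟨hc0.1, fun w hw => by
    have h := congrArg f (hc0.2 w hw)
    simp only [ep, map_mul, map_inv, hfel] at h
    exact h⟩
  have hNE : ∀ {n}, NE φ s n → n ∈ M := fun {n} hn =>
    C.ne_mem hel ⟨n0, rfl⟩ hact (by rw [hn0]; exact hv1) hn
  set t := φ (slm 3)
  have r60' := c_r60
  simp only [Bool.and_eq_true, allF_iff, anyF_iff, beq_iff] at r60'
  have hfrom : ∀ {x}, x ∈ P5 → ∃ m ∈ M, m * t * m⁻¹ = ep φ s x := fun {x} hx => by
    obtain ⟨r, hr, hrx⟩ := r60'.1.1.1.1.1.1 x hx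
    obtain ⟨m, hm⟩ := C.exists_realise hr
    exact ⟨m, hNE hm.ne, by rw [C.mover_conj hm, ← (ap_basis r).2.1, hrx]⟩
  have hto : ∀ {x}, x ∈ P5 → ∃ m ∈ M, m * ep φ s x * m⁻¹ = t := fun {x} hx => by
    obtain ⟨r, hr, hrx⟩ := r60'.1.1.1.1.2 x hx
    obtain ⟨m, hm⟩ := C.exists_realise hr
    exact ⟨m, hNE hm.ne, by rw [hm.2 x (P5_lt x hx).1, hrx, C.ep_one]⟩
  have hback : ∀ {g m : G}, m ∈ M → m * t * m⁻¹ = g * t * g⁻¹ → g ∈ M := fun {g m} hm e => by
    obtain ⟨i, hi, hie⟩ := C.eq_el (g := m⁻¹ * g) (by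
      show _ = _
      calc m⁻¹ * g * t = m⁻¹ * (g * t * g⁻¹) * g := by group
        _ = t * (m⁻¹ * g) := by rw [← e]; group)
    rw [show g = m * el φ s i by rw [hie]; group]
    exact mul_mem hm (hel i hi)
  have hintoE : ∀ {z : G}, z * z = 1 → z ≠ 1 → Commute z t →
      ∃ h ∈ M, ∃ v < 16, v ≠ 0 ∧ h * z * h⁻¹ = ep φ s v := fun {z} hz hz1 hzt => by
    obtain ⟨i, hi, rfl⟩ := C.eq_el hzt
    have hI : isInv i = true := by
      rw [← C.isInv_iff hi]
      exact orderOf_eq_prime (by rw [pow_two]; exact hz) hz1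
    obtain ⟨h, hh, v, hv, hv0, e⟩ := C.exists_into_E hi hI
    exact ⟨_, hel h hh, v, hv, hv0, e⟩
  have conjM : ∀ {g m : G}, m ∈ M → m * g * m⁻¹ ∈ M → g ∈ M := fun {g m} hm h => by
    rw [show g = m⁻¹ * (m * g * m⁻¹) * m by group]
    exact mul_mem (mul_mem (inv_mem hm) h) hm
  have invT : ∀ {z g : G}, z * z = 1 → z ≠ 1 → Commute z t → Commute g z → g ∈ M := by
    intro z g hz hz1 hzt hg
    obtain ⟨h, hh, v, hv, hv0, e⟩ := hintoE hz hz1 hzt
    refine conjM hh ?_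
    have hg' := commute_conj hg h
    rw [e] at hg'
    rcases points v hv with h' | h' | h'
    · exact absurd h' hv0
    · obtain ⟨m, hm, me⟩ := hto h'
      refine conjM hm ?_
      have hg'' := commute_conj hg' m
      rw [me] at hg''
      obtain ⟨i, hi, hie⟩ := C.eq_el hg''
      exact hie ▸ hel i hi
    · exact hNE (C.cent_ten h' hg')
  have invNE : ∀ {z g : G}, z * z = 1 → z ≠ 1 → NE φ s z → Commute g z → g ∈ M := by
    intro z g hz hz1 hzN hg
    obtain ⟨c, hc⟩ := C.exists_code hzN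
    have hid : Act φ s (z * z) 33825 := ⟨by norm_num, fun v hv => by rw [hz, ap_id v hv]; group⟩
    have hf' := allF_iff.1 c_fix c (C.code_mem hc)
    rw [show cmp c c = 33825 from C.act_unique (C.act_mul hc hc) hid] at hf'
    simp only [Nat.beq_refl, Bool.not_true, Bool.false_or, anyF_iff, beq_iff] at hf'
    obtain ⟨x, hx, hcx⟩ := hf'
    obtain ⟨m, hm, me⟩ := hto hx
    have hzx : Commute z (ep φ s x) := mul_inv_eq_iff_eq_mul.1 (by rw [hc.2 x (P5_lt x hx).1, hcx])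
    refine conjM hm (invT (z := m * z * m⁻¹) ?_ ?_ (me ▸ commute_conj hzx m) (commute_conj hg m))
    · calc m * z * m⁻¹ * (m * z * m⁻¹) = m * (z * z) * m⁻¹ := by group
        _ = 1 := by rw [hz]; group
    · exact fun e => hz1 (by rw [← conj_back e]; group)
  -- every involution lies in the image
  have hinv : ∀ {y : G}, y * y = 1 → y ∈ M := fun {y} hy => by
    by_contra hyM
    have hyT : TConj φ y := by
      rcases pair_cases C.t_sq hy with ⟨c, -, e⟩ | ⟨z, -, hz, hz1, hzt, hzy, -⟩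
      · exact ⟨c, e⟩
      · exact absurd (invT hz hz1 hzt hzy.symm) hyM
    rcases pair_cases (C.ep_sq (v := 3) (by norm_num)) hy with ⟨c, -, e⟩ | ⟨z, -, hz, hz1, hz3, hzy, -⟩
    · exact C.not_tconj (v := 3) (by decide) (TConj.of_conj (e.symm ▸ hyT))
    · exact hyM (invNE hz hz1 (C.cent_ten (v := 3) (by decide) hz3) hzy.symm)
  refine ⟨(MulEquiv.ofBijective f ⟨hf, fun g => ?_⟩).symm⟩
  show g ∈ M
  set y := g * t * g⁻¹ with hy
  have hy2 : y * y = 1 := by
    calc y * y = g * (t * t) * g⁻¹ := by rw [hy]; group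
      _ = 1 := by rw [C.t_sq]; group
  have hy1 : y ≠ 1 := fun e => C.t_ne (by
    rw [show φ (slm 3) = g⁻¹ * y * g by rw [hy]; simp only [t]; group, e]; group)
  rcases pair_cases C.t_sq hy2 with ⟨c, hc, e⟩ | ⟨z, -, hz, hz1, hzt, hzy, -⟩
  · exact hback ((Subgroup.zpowers_le.2 (mul_mem (C.el_three ▸ hel 3 (by norm_num)) (hinv hy2))) hc) e
  obtain ⟨h, hh, v, hv, hv0, e⟩ := hintoE hz hz1 hzt
  have hy' := commute_conj hzy.symm h
  rw [e] at hy'
  have hyT : TConj φ (h * y * h⁻¹) := TConj.conj ⟨g, rfl⟩ h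
  have hy'2 : h * y * h⁻¹ * (h * y * h⁻¹) = 1 := by
    calc h * y * h⁻¹ * (h * y * h⁻¹) = h * (y * y) * h⁻¹ := by group
      _ = 1 := by rw [hy2]; group
  have hy'1 : h * y * h⁻¹ ≠ 1 := fun e => hy1 (by rw [← conj_back e]; group)
  obtain ⟨m, hm, me⟩ : ∃ m ∈ M, m * t * m⁻¹ = h * y * h⁻¹ := by
    rcases points v hv with h' | h' | h'
    · exact absurd h' hv0
    · obtain ⟨m, hm, me⟩ := hto h'
      have hy'' := commute_conj hy' m
      rw [me] at hy''
      have hc2 : m * (h * y * h⁻¹) * m⁻¹ * (m * (h * y * h⁻¹) * m⁻¹) = 1 := by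
        calc m * (h * y * h⁻¹) * m⁻¹ * (m * (h * y * h⁻¹) * m⁻¹)
            = m * (h * y * h⁻¹ * (h * y * h⁻¹)) * m⁻¹ := by group
          _ = 1 := by rw [hy'2]; group
      obtain ⟨h2, hh2, x, hx, -, e2⟩ := hintoE hc2 (fun e => hy'1 (by rw [← conj_back e]; group)) hy''
      obtain ⟨m1, hm1, me1⟩ := hfrom (C.mem_P5_of_tconj hx (e2 ▸ (hyT.conj m).conj h2))
      refine ⟨(h2 * m)⁻¹ * m1, mul_mem (inv_mem (mul_mem hh2 hm)) hm1, ?_⟩
      calc (h2 * m)⁻¹ * m1 * t * ((h2 * m)⁻¹ * m1)⁻¹ = (h2 * m)⁻¹ * (m1 * t * m1⁻¹) * (h2 * m) := by group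
        _ = _ := by rw [me1, ← e2]; group
    · obtain ⟨x, hx, hxe⟩ := C.inv_normalizer (C.cent_ten h' hy') hy'2 hyT
      obtain ⟨m1, hm1, me1⟩ := hfrom hx
      exact ⟨m1, hm1, me1.trans hxe.symm⟩
  refine hback (mul_mem (inv_mem hh) hm) ?_
  calc h⁻¹ * m * t * (h⁻¹ * m)⁻¹ = h⁻¹ * (m * t * m⁻¹) * h := by group
    _ = _ := by rw [me, hy]; group

end Conf

theorem cntN_eq (f : ℕ → Bool) (n : ℕ) : cntN f n = ((Finset.range n).filter fun i => f i = true).card := by
  induction n with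
  | zero => rfl
  | succ n ih =>
    show (bif f n then 1 else 0) + cntN f n = _
    rw [Finset.range_add_one, Finset.filter_insert, ih]
    cases hn : f n <;> simp [add_comm]

/-- The points commuting with an index, as a subgroup of the centraliser. -/
theorem card_cent {P : Type*} [Group P] {ψ : SL3 →* P} {u : P} (H : Hyp ψ u) {i : ℕ} (hi : i < 576) :
    Nat.card (Subgroup.centralizer ({ψ (slm 3), el ψ u i} : Set P)) = cntN (fun j => cm i j) 576 := by
  rw [cntN_eq, ← Nat.card_eq_finsetCard]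
  symm
  let f : {j // j ∈ (Finset.range 576).filter fun j => cm i j = true} →
      Subgroup.centralizer ({ψ (slm 3), el ψ u i} : Set P) := fun j =>
    ⟨el ψ u j, Subgroup.mem_centralizer_iff.2 fun x hx => by
      obtain ⟨hj, hc⟩ := Finset.mem_filter.1 j.2
      rw [Finset.mem_range] at hj
      rcases hx with rfl | rfl
      · exact (H.commutes hj).symm
      · exact (H.el_comm_iff hi hj).2 hc⟩
  refine Nat.card_eq_of_bijective f ⟨fun a b e => Subtype.ext (H.el_inj ?_ ?_ (congrArg Subtype.val e)), fun g => ?_⟩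
  · exact Finset.mem_range.1 (Finset.mem_filter.1 a.2).1
  · exact Finset.mem_range.1 (Finset.mem_filter.1 b.2).1
  · have hg := Subgroup.mem_centralizer_iff.1 g.2
    obtain ⟨j, hj, e⟩ := H.mem g.1 (hg _ (Or.inl rfl)).symm
    refine ⟨⟨j, Finset.mem_filter.2 ⟨Finset.mem_range.2 hj, (H.el_comm_iff hi hj).1 ?_⟩⟩, Subtype.ext e⟩
    rw [e]
    exact hg _ (Or.inr rfl)

/-- An involution of the centraliser centralising a subgroup of order divisible by 64 there is central. -/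
theorem eq_t_of_dvd {P : Type*} [Group P] {ψ : SL3 →* P} {u : P} (H : Hyp ψ u) {z : P} (hz : orderOf z = 2)
    (hc : Commute z (ψ (slm 3))) (h : 64 ∣ Nat.card (Subgroup.centralizer ({ψ (slm 3), z} : Set P))) :
    z = ψ (slm 3) := by
  obtain ⟨i, hi, rfl⟩ := H.eq_el hc
  have hI := (H.isInv_iff hi).1 hz
  have hh := allN_spec c_central i hi
  rw [card_cent H hi] at h
  rw [hI, Nat.mod_eq_zero_of_dvd h] at hh
  simp only [Nat.beq_refl, Bool.not_true, Bool.false_or, Bool.or_false, beq_iff] at hh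
  rw [hh]
  exact H.el_three

/-- In `PSp₄(3)` a central involution of a Sylow subgroup is conjugate to the standard one. -/
theorem conj_std {t1 : Cfsg.PSp 2 (ZMod 3)} (U : Sylow 2 (Cfsg.PSp 2 (ZMod 3))) (ht : orderOf t1 = 2)
    (htU : t1 ∈ (U : Subgroup (Cfsg.PSp 2 (ZMod 3)))) (htc : ∀ u ∈ (U : Subgroup (Cfsg.PSp 2 (ZMod 3))), u * t1 = t1 * u) :
    ∃ k, k * t1 * k⁻¹ = φ0 (slm 3) := by
  haveI : Fact (Nat.Prime 2) := ⟨Nat.prime_two⟩
  set T := φ0 (slm 3)
  set C0 := Subgroup.centralizer ({T} : Set (Cfsg.PSp 2 (ZMod 3))) with hC0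
  have hT : T ∈ C0 := Subgroup.mem_centralizer_iff.2 fun x hx => by rw [Set.mem_singleton_iff] at hx; rw [hx]
  have hTc : ∀ g : C0, Commute g (⟨T, hT⟩ : C0) := fun g =>
    Subtype.ext (Subgroup.mem_centralizer_iff.1 g.2 T rfl).symm
  have hT2 : IsPGroup 2 (Subgroup.zpowers (⟨T, hT⟩ : C0)) := by
    refine IsPGroup.of_card (n := 1) ?_
    rw [Nat.card_zpowers, ← Subgroup.orderOf_coe, pow_one]
    exact orderOf_eq_prime (by rw [pow_two]; exact hyp0.t_sq) hyp0.t_ne
  obtain ⟨Q, hQ⟩ := hT2.exists_le_sylow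
  have h64 : 64 ∣ Nat.card (Q : Subgroup C0) := by
    obtain ⟨K, hK⟩ := Sylow.exists_subgroup_card_pow_prime 2 (G := C0) (n := 6) (by
      rw [show Nat.card C0 = 576 from hyp0.card]; norm_num)
    obtain ⟨Q', hQ'⟩ := (IsPGroup.of_card hK).exists_le_sylow
    have h := Subgroup.card_dvd_of_le hQ'
    rw [hK] at h
    rw [show (64 : ℕ) = 2 ^ 6 from rfl, Sylow.card_eq_multiplicity Q]
    rwa [Sylow.card_eq_multiplicity Q'] at h
  set P := (Q : Subgroup C0).map C0.subtype with hP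
  have hP2 : IsPGroup 2 P := Q.isPGroup'.map _
  obtain ⟨P', hP'⟩ := hP2.exists_le_sylow
  obtain ⟨k, hk⟩ := MulAction.exists_smul_eq (Cfsg.PSp 2 (ZMod 3)) U P'
  have hkc : ∀ w ∈ (P' : Subgroup (Cfsg.PSp 2 (ZMod 3))), Commute w (k * t1 * k⁻¹) := by
    intro w hw
    rw [← hk, Sylow.coe_subgroup_smul] at hw
    obtain ⟨u, hu, rfl⟩ := hw
    exact commute_conj (htc u hu) k
  refine ⟨k, eq_t_of_dvd hyp0 (by rw [BrauerSuzuki.orderOf_conj_eq]; exact ht) ?_ ?_⟩
  · exact (hkc T (hP' ⟨⟨T, hT⟩, hQ (Subgroup.mem_zpowers _), rfl⟩)).symm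
  · refine h64.trans ?_
    rw [← Subgroup.card_map_of_injective (f := C0.subtype) C0.subtype_injective]
    refine Subgroup.card_dvd_of_le ?_
    intro w hw
    refine Subgroup.mem_centralizer_iff.2 fun x hx => ?_
    rcases hx with rfl | rfl
    · obtain ⟨g, -, rfl⟩ := hw
      exact Subgroup.mem_centralizer_iff.1 g.2 _ rfl
    · exact (hkc w (hP' hw)).eq.symm

/-- The characterisation. -/
theorem psp_of_centralizer {G : Type*} [Group G] [Finite G] (hG : ∀ H : Subgroup G, H.index ≠ 2) {F : Type*}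
    [Field F] [Fintype F] (hF : Fintype.card F = 3) (U : Sylow 2 (Cfsg.PSp 2 F)) (t₀ : Cfsg.PSp 2 F)
    (ht₀ : orderOf t₀ = 2) (ht₀U : t₀ ∈ (U : Subgroup (Cfsg.PSp 2 F)))
    (ht₀c : ∀ u ∈ (U : Subgroup (Cfsg.PSp 2 F)), u * t₀ = t₀ * u) (t : G) (ht : orderOf t = 2)
    (e : ↥(Subgroup.centralizer ({t} : Set G)) ≃* ↥(Subgroup.centralizer ({t₀} : Set (Cfsg.PSp 2 F)))) :
    Nonempty (G ≃* Cfsg.PSp 2 F) := by
  set E0 := (S3342Id.nonempty_pspCongr (ZMod.ringEquivOfPrime F Nat.prime_three hF)).some.symm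
  have hE0 : Function.Surjective (E0.toMonoidHom : Cfsg.PSp 2 F →* Cfsg.PSp 2 (ZMod 3)) := E0.surjective
  have ht1 : ∀ w ∈ ((U.mapSurjective hE0 : Sylow 2 _) : Subgroup (Cfsg.PSp 2 (ZMod 3))),
      w * E0 t₀ = E0 t₀ * w := by
    rintro _ ⟨u, hu, rfl⟩
    show E0 u * E0 t₀ = E0 t₀ * E0 u
    rw [← map_mul, ← map_mul, ht₀c u hu]
  obtain ⟨k, hk⟩ := conj_std (U.mapSurjective hE0) ((E0.orderOf_eq t₀).trans ht₀) ⟨t₀, ht₀U, rfl⟩ ht1
  set Ψ : Cfsg.PSp 2 F ≃* Cfsg.PSp 2 (ZMod 3) := E0.trans (MulAut.conj k)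
  have hΨ : Ψ t₀ = φ0 (slm 3) := hk
  set C0 := Subgroup.centralizer ({φ0 (slm 3)} : Set (Cfsg.PSp 2 (ZMod 3)))
  set CG := Subgroup.centralizer ({t} : Set G)
  let e' : CG ≃* C0 :=
    { toFun := fun g => ⟨Ψ (e g), Subgroup.mem_centralizer_iff.2 fun x hx => by
        rw [Set.mem_singleton_iff] at hx
        rw [hx, ← hΨ, ← map_mul, ← map_mul, Subgroup.mem_centralizer_iff.1 (e g).2 t₀ rfl]⟩
      invFun := fun h => e.symm ⟨Ψ.symm h, Subgroup.mem_centralizer_iff.2 fun x hx => by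
        rw [Set.mem_singleton_iff] at hx
        apply Ψ.injective
        rw [hx, map_mul, map_mul, hΨ, Ψ.apply_symm_apply]
        exact Subgroup.mem_centralizer_iff.1 h.2 _ rfl⟩
      left_inv := fun g => by simp
      right_inv := fun h => Subtype.ext (by simp)
      map_mul' := fun g h => Subtype.ext (by simp) }
  have hmem : ∀ g, φ0 g ∈ C0 := fun g => by
    obtain ⟨p, hp, rfl⟩ := slm_surj g
    refine Subgroup.mem_centralizer_iff.2 fun x hx => ?_
    rw [Set.mem_singleton_iff] at hx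
    have e3 : ∀ p < 24, sS 3 p = sS p 3 := by decide +kernel
    rw [hx, ← map_mul, ← map_mul, (slm_mul (by norm_num) hp).2, (slm_mul hp (by norm_num)).2, e3 p hp]
  have hs0 : s0 ∈ C0 := Subgroup.mem_centralizer_iff.2 fun x hx => by
    rw [Set.mem_singleton_iff] at hx
    rw [hx]
    exact hyp0.s_comm.eq.symm
  set χ : C0 →* G := CG.subtype.comp e'.symm.toMonoidHom with hχdef
  have hχ : Function.Injective χ := CG.subtype_injective.comp e'.symm.injective
  set φ1 : SL3 →* C0 := φ0.codRestrict C0 hmem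
  set s1 : C0 := ⟨s0, hs0⟩
  set φ := χ.comp φ1 with hφdef
  set s := χ s1
  have hel : ∀ i, χ (el φ1 s1 i) = el φ s i := fun i => map_el χ φ1 s1 i
  have hel0 : ∀ i, ((el φ1 s1 i : C0) : Cfsg.PSp 2 (ZMod 3)) = el φ0 s0 i := fun i => map_el C0.subtype φ1 s1 i
  have htm : t ∈ CG := Subgroup.mem_centralizer_iff.2 fun x hx => by rw [Set.mem_singleton_iff] at hx; rw [hx]
  have hτ : ((e' ⟨t, htm⟩ : C0) : Cfsg.PSp 2 (ZMod 3)) = φ0 (slm 3) := by
    refine eq_t_of_dvd hyp0 ?_ ?_ ?_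
    · rw [Subgroup.orderOf_coe, e'.orderOf_eq, ← Subgroup.orderOf_coe]; exact ht
    · exact (Subgroup.mem_centralizer_iff.1 (e' ⟨t, htm⟩).2 _ rfl).symm
    · have hle : C0 ≤ Subgroup.centralizer ({φ0 (slm 3), ↑(e' ⟨t, htm⟩)} : Set (Cfsg.PSp 2 (ZMod 3))) := by
        intro g hg
        refine Subgroup.mem_centralizer_iff.2 fun x hx => ?_
        rcases hx with rfl | rfl
        · exact Subgroup.mem_centralizer_iff.1 hg _ rfl
        · have hc : Commute (e' ⟨t, htm⟩) (e' (e'.symm ⟨g, hg⟩)) :=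
            Commute.map (Subtype.ext (Subgroup.mem_centralizer_iff.1 (e'.symm ⟨g, hg⟩).2 t rfl)) e'
          rw [e'.apply_symm_apply] at hc
          exact congrArg Subtype.val hc.eq
      exact ((by norm_num : 64 ∣ 576).trans (hyp0.card ▸ dvd_refl _)).trans (Subgroup.card_dvd_of_le hle)
  have hz : φ (slm 3) = t := by
    show ((e'.symm (φ1 (slm 3)) : CG) : G) = t
    rw [show φ1 (slm 3) = e' ⟨t, htm⟩ from Subtype.ext hτ.symm, e'.symm_apply_apply]
  have P : Pre φ s := by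
    refine ⟨fun g h => ?_, ?_, ?_⟩
    · simp only [φ, s, MonoidHom.comp_apply, ← map_inv, ← map_mul]
      exact Commute.map (Subtype.ext (pre0.comm g h).eq) χ
    · simp only [s, ← map_mul]
      rw [show s1 * s1 = 1 from Subtype.ext pre0.sq, map_one]
    · simp only [φ, s, MonoidHom.comp_apply, ← map_inv, ← map_mul]
      rw [show φ1 (slm 3) * (s1 * φ1 (slm 3) * s1⁻¹) = 1 from Subtype.ext pre0.z, map_one]
  have H : Hyp φ s := by
    refine ⟨P, fun g hg => ?_, ?_⟩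
    · rw [hz] at hg
      have hgm : g ∈ CG := Subgroup.mem_centralizer_iff.2 fun x hx => by
        rw [Set.mem_singleton_iff] at hx; rw [hx, hg]
      obtain ⟨i, hi, hie⟩ := hyp0.mem (e' ⟨g, hgm⟩ : C0) (Subgroup.mem_centralizer_iff.1 (e' ⟨g, hgm⟩).2 _ rfl).symm
      refine ⟨i, hi, ?_⟩
      rw [← hel, show el φ1 s1 i = e' ⟨g, hgm⟩ from Subtype.ext ((hel0 i).trans hie)]
      exact congrArg Subtype.val (e'.symm_apply_apply _)
    · rw [hz]
      exact (Nat.card_congr e'.toEquiv).trans hyp0.card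
  obtain ⟨s', C⟩ := H.exists_conf hG
  obtain ⟨f⟩ := C.nonempty_iso
  exact ⟨f.trans E0.symm⟩

end Cfsg.Agent.PspInv
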