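import Cfsg.Agent.Lib.PspInv.Checks
import Cfsg.Agent.Lib.PspInv.CancelCheck
import Cfsg.Agent.Lib.Hayden.Dict
import Cfsg.Agent.Lib.S3342Id.Rel

/-!
Coordinates on the centraliser of an involution `t` presented by a copy `φ` of `SL₂(3)` and an involution `s`
exchanging it with a commuting copy, and the instance in `PSp₄(3)`.
-/

set_option autoImplicit false
set_option maxRecDepth 20000
set_option synthInstance.maxSize 10000
set_option linter.unusedSectionVars false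
set_option linter.style.haveILetI false

namespace Cfsg.Agent.PspInv

open Cfsg.Agent.SpAmalgam Cfsg.Agent.SpAmalgam.Four
open Cfsg.Agent.Hayden (sS sI slm mat chk_S slm_val chk_mat_inj)

/-- `SL₂(3)`. -/
abbrev SL3 : Type := S2 (ZMod 3)

theorem slm_mul {k l : ℕ} (hk : k < 24) (hl : l < 24) : sS k l < 24 ∧ slm k * slm l = slm (sS k l) := by
  have h := chk_S k hk l hl
  refine ⟨h.1, Subtype.ext ?_⟩
  rw [Matrix.SpecialLinearGroup.coe_mul, slm_val hk, slm_val hl, slm_val h.1]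
  ext a b
  fin_cases a <;> fin_cases b
  · simpa [Matrix.mul_apply, Fin.sum_univ_two] using h.2.1
  · simpa [Matrix.mul_apply, Fin.sum_univ_two] using h.2.2.1
  · simpa [Matrix.mul_apply, Fin.sum_univ_two] using h.2.2.2.1
  · simpa [Matrix.mul_apply, Fin.sum_univ_two] using h.2.2.2.2

theorem slm_special : slm 0 = 1 ∧ slm 3 = dd (-1) ∧ slm 1 = uu 1 ∧ slm 2 = uu (-1) ∧ slm 9 = ss ∧
    slm 12 = ll 1 ∧ slm 13 = ll (-1) := by
  refine ⟨?_, ?_, ?_, ?_, ?_, ?_, ?_⟩ <;> decide +kernel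

theorem slm_inj {k l : ℕ} (hk : k < 24) (hl : l < 24) (h : slm k = slm l) : k = l := by
  have hm : mat k = mat l := by rw [← slm_val hk, ← slm_val hl, h]
  exact chk_mat_inj k hk l hl (by rw [hm]) (by rw [hm]) (by rw [hm]) (by rw [hm])

theorem slm_surj (g : SL3) : ∃ k < 24, slm k = g := by
  obtain ⟨i, hi, hie⟩ := Hayden.md_surj (SemidirectProduct.inr g)
  exact ⟨i / 27, by omega, congrArg SemidirectProduct.right hie⟩

theorem enc_spec {e p q : ℕ} (he : e < 2) (hp : p < 24) (hq : q < 24) :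
    enc e p q < 576 ∧ enc e p q / 288 = e ∧
      ((p1 (enc e p q) = p ∧ p2 (enc e p q) = q) ∨ (p1 (enc e p q) = ng p ∧ p2 (enc e p q) = ng q)) := by
  have h := allN_spec (allN_spec (allN_spec c_enc e he) p hp) q hq
  simpa [Bool.and_eq_true, Bool.or_eq_true, Nat.blt_eq, and_assoc] using h

theorem iv_spec {i : ℕ} (hi : i < 576) :
    iv i < 576 ∧ T (iv i) i = 0 ∧ T i (iv i) = 0 ∧ p1 i < 24 ∧ p2 i < 24 := by
  have h := allN_spec c_iv i hi
  simpa [Bool.and_eq_true, Nat.blt_eq, and_assoc] using h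

variable {G : Type*} [Group G]

/-- The relations of the generators. -/
structure Pre (φ : SL3 →* G) (s : G) : Prop where
  comm : ∀ g h, Commute (φ g) (s * φ h * s⁻¹)
  sq : s * s = 1
  z : φ (slm 3) * (s * φ (slm 3) * s⁻¹) = 1

/-- The element at an index. -/
def el (φ : SL3 →* G) (s : G) (i : ℕ) : G :=
  φ (slm (p1 i)) * (s * φ (slm (p2 i)) * s⁻¹) * s ^ (i / 288)

/-- The generators give the whole centraliser of `t = φ (-1)`, of order 576. -/
structure Hyp (φ : SL3 →* G) (s : G) : Prop extends Pre φ s where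
  mem : ∀ g, g * φ (slm 3) = φ (slm 3) * g → ∃ i < 576, el φ s i = g
  card : Nat.card (Subgroup.centralizer ({φ (slm 3)} : Set G)) = 576

namespace Pre

variable {φ : SL3 →* G} {s : G} (P : Pre φ s)
include P

theorem inv_s : s⁻¹ = s := inv_eq_of_mul_eq_one_left P.sq

theorem neg_pair {p q : ℕ} (hp : p < 24) (hq : q < 24) :
    φ (slm (ng p)) * (s * φ (slm (ng q)) * s⁻¹) = φ (slm p) * (s * φ (slm q) * s⁻¹) := by
  unfold ng
  rw [← (slm_mul (by norm_num) hp).2, ← (slm_mul (by norm_num) hq).2, map_mul, map_mul]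
  have hc : Commute (φ (slm p)) (s * φ (slm 3) * s⁻¹) := P.comm _ _
  calc φ (slm 3) * φ (slm p) * (s * (φ (slm 3) * φ (slm q)) * s⁻¹)
      = φ (slm 3) * (φ (slm p) * (s * φ (slm 3) * s⁻¹)) * (s * φ (slm q) * s⁻¹) := by group
    _ = φ (slm 3) * ((s * φ (slm 3) * s⁻¹) * φ (slm p)) * (s * φ (slm q) * s⁻¹) := by rw [hc.eq]
    _ = _ := by rw [← mul_assoc (φ (slm 3)), P.z, one_mul]

theorem el_enc {e p q : ℕ} (he : e < 2) (hp : p < 24) (hq : q < 24) :
    el φ s (enc e p q) = φ (slm p) * (s * φ (slm q) * s⁻¹) * s ^ e := by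
  obtain ⟨-, h2, h3⟩ := enc_spec he hp hq
  unfold el
  rw [h2]
  rcases h3 with ⟨e1, e2⟩ | ⟨e1, e2⟩
  · rw [e1, e2]
  · rw [e1, e2, P.neg_pair hp hq]

theorem T_lt {i j : ℕ} (hi : i < 576) (hj : j < 576) : T i j < 576 := by
  obtain ⟨-, -, -, a1, a2⟩ := iv_spec hi
  obtain ⟨-, -, -, b1, b2⟩ := iv_spec hj
  unfold T
  cases Nat.beq (i / 288) 0
  · exact (enc_spec (Nat.mod_lt _ (by norm_num)) (slm_mul a1 b2).1 (slm_mul a2 b1).1).1
  · exact (enc_spec (by omega) (slm_mul a1 b1).1 (slm_mul a2 b2).1).1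

theorem el_mul {i j : ℕ} (hi : i < 576) (hj : j < 576) : el φ s i * el φ s j = el φ s (T i j) := by
  obtain ⟨-, -, -, a1, a2⟩ := iv_spec hi
  obtain ⟨-, -, -, b1, b2⟩ := iv_spec hj
  have hs := P.inv_s
  have h2 : ∀ g, s * (s * φ g * s⁻¹) = φ g * s := fun g => by
    rw [hs, ← mul_assoc, ← mul_assoc, P.sq, one_mul]
  rcases (show i / 288 = 0 ∨ i / 288 = 1 by omega) with he | he
  · have hT : T i j = enc (j / 288) (sS (p1 i) (p1 j)) (sS (p2 i) (p2 j)) := by
      rw [T, he]; rfl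
    rw [hT, P.el_enc (by omega) (slm_mul a1 b1).1 (slm_mul a2 b2).1, ← (slm_mul a1 b1).2, ← (slm_mul a2 b2).2,
      map_mul, map_mul]
    unfold el
    rw [he, pow_zero, mul_one]
    have hc : Commute (φ (slm (p1 j))) (s * φ (slm (p2 i)) * s⁻¹) := P.comm _ _
    calc φ (slm (p1 i)) * (s * φ (slm (p2 i)) * s⁻¹) *
          (φ (slm (p1 j)) * (s * φ (slm (p2 j)) * s⁻¹) * s ^ (j / 288))
        = φ (slm (p1 i)) * ((s * φ (slm (p2 i)) * s⁻¹) * φ (slm (p1 j))) * (s * φ (slm (p2 j)) * s⁻¹) *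
            s ^ (j / 288) := by group
      _ = _ := by rw [← hc.eq]; group
  · have hT : T i j = enc ((1 + j / 288) % 2) (sS (p1 i) (p2 j)) (sS (p2 i) (p1 j)) := by
      rw [T, he]; rfl
    rw [hT, P.el_enc (Nat.mod_lt _ (by norm_num)) (slm_mul a1 b2).1 (slm_mul a2 b1).1, ← (slm_mul a1 b2).2,
      ← (slm_mul a2 b1).2, map_mul, map_mul]
    unfold el
    rw [he, pow_one]
    have hc : Commute (φ (slm (p2 j))) (s * φ (slm (p2 i)) * s⁻¹) := P.comm _ _
    have hc' : Commute (φ (slm (p2 j))) (s * φ (slm (p1 j)) * s⁻¹) := P.comm _ _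
    have hpow : s * s ^ (j / 288) = s ^ ((1 + j / 288) % 2) := by
      rcases (show j / 288 = 0 ∨ j / 288 = 1 by omega) with hf | hf <;> rw [hf] <;> simp [P.sq]
    calc φ (slm (p1 i)) * (s * φ (slm (p2 i)) * s⁻¹) * s *
          (φ (slm (p1 j)) * (s * φ (slm (p2 j)) * s⁻¹) * s ^ (j / 288))
        = φ (slm (p1 i)) * (s * φ (slm (p2 i)) * s⁻¹) *
            ((s * φ (slm (p1 j))) * (s * φ (slm (p2 j)) * s⁻¹)) * s ^ (j / 288) := by group
      _ = φ (slm (p1 i)) * (s * φ (slm (p2 i)) * s⁻¹) *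
            ((s * φ (slm (p1 j)) * s⁻¹) * (φ (slm (p2 j)) * s)) * s ^ (j / 288) := by
          rw [← h2 (slm (p2 j))]
          group
      _ = φ (slm (p1 i)) * ((s * φ (slm (p2 i)) * s⁻¹) *
            ((s * φ (slm (p1 j)) * s⁻¹) * φ (slm (p2 j)))) * (s * s ^ (j / 288)) := by group
      _ = φ (slm (p1 i)) * ((s * φ (slm (p2 i)) * s⁻¹) * φ (slm (p2 j)) * (s * φ (slm (p1 j)) * s⁻¹)) *
            s ^ ((1 + j / 288) % 2) := by rw [← hc'.eq, hpow]; group
      _ = _ := by rw [← hc.eq]; group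

theorem el_zero : el φ s 0 = 1 := by
  show φ (slm 0) * (s * φ (slm 0) * s⁻¹) * s ^ 0 = 1
  simp [slm_special.1]

theorem el_inv {i : ℕ} (hi : i < 576) : (el φ s i)⁻¹ = el φ s (iv i) := by
  obtain ⟨h1, h2, -, -, -⟩ := iv_spec hi
  exact inv_eq_of_mul_eq_one_left (by rw [P.el_mul h1 hi, h2, P.el_zero])

theorem el_cj {h i : ℕ} (hh : h < 576) (hi : i < 576) :
    el φ s h * el φ s i * (el φ s h)⁻¹ = el φ s (cj h i) := by
  rw [P.el_inv hh, P.el_mul hh hi, P.el_mul (P.T_lt hh hi) (iv_spec hh).1]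
  rfl

theorem sigma_z : s * φ (slm 3) * s⁻¹ = φ (slm 3) := by
  rw [eq_inv_of_mul_eq_one_right P.z, ← map_inv]
  congr 1
  exact inv_eq_of_mul_eq_one_left (by rw [(slm_mul (by norm_num) (by norm_num)).2]; decide +kernel)

theorem el_three : el φ s 3 = φ (slm 3) := by
  show φ (slm 0) * (s * φ (slm 3) * s⁻¹) * s ^ 0 = _
  rw [slm_special.1, map_one, one_mul, pow_zero, mul_one, P.sigma_z]

theorem el_s : el φ s 288 = s := by
  show φ (slm 0) * (s * φ (slm 0) * s⁻¹) * s ^ 1 = s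
  simp [slm_special.1]

theorem el_a : el φ s 24 = φ (uu 1) := by
  show φ (slm 1) * (s * φ (slm 0) * s⁻¹) * s ^ 0 = _
  simp [slm_special.1, slm_special.2.2.1]

theorem el_a' : el φ s 1 = s * φ (uu 1) * s⁻¹ := by
  show φ (slm 0) * (s * φ (slm 1) * s⁻¹) * s ^ 0 = _
  simp [slm_special.1, slm_special.2.2.1]

end Pre

namespace Hyp

variable {φ : SL3 →* G} {s : G} (H : Hyp φ s)
include H

theorem commutes {i : ℕ} (hi : i < 576) : el φ s i * φ (slm 3) = φ (slm 3) * el φ s i := by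
  obtain ⟨-, -, -, a1, a2⟩ := iv_spec hi
  have hz : Commute (φ (slm 3)) s := by
    have h := H.sigma_z
    rw [mul_inv_eq_iff_eq_mul] at h
    exact h.symm
  have h1 : ∀ p < 24, Commute (φ (slm p)) (φ (slm 3)) := fun p hp => by
    refine Commute.map ?_ φ
    have e : ∀ p < 24, sS p 3 = sS 3 p := by decide +kernel
    show slm p * slm 3 = slm 3 * slm p
    rw [(slm_mul hp (by norm_num)).2, (slm_mul (by norm_num) hp).2, e p hp]
  exact ((h1 _ a1).mul_left ((hz.symm.mul_left (h1 _ a2)).mul_left hz.symm.inv_left)).mul_left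
    (hz.symm.pow_left _)

theorem el_inj : ∀ {i j : ℕ}, i < 576 → j < 576 → el φ s i = el φ s j → i = j := by
  classical
  set C := Subgroup.centralizer ({φ (slm 3)} : Set G)
  have hmem : ∀ i : Fin 576, el φ s i ∈ C := fun i => Subgroup.mem_centralizer_iff.2 fun x hx => by
    rw [Set.mem_singleton_iff] at hx
    rw [hx, H.commutes i.2]
  have hsurj : Function.Surjective (fun i : Fin 576 => (⟨el φ s i, hmem i⟩ : C)) := fun g => by
    obtain ⟨i, hi, e⟩ := H.mem g.1 ((Subgroup.mem_centralizer_iff.1 g.2 _ rfl).symm)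
    exact ⟨⟨i, hi⟩, Subtype.ext e⟩
  haveI : Finite C := Nat.finite_of_card_ne_zero (by rw [show Nat.card C = 576 from H.card]; norm_num)
  have hb := (Nat.bijective_iff_surjective_and_card _).2 ⟨hsurj, by rw [Nat.card_fin]; exact H.card.symm⟩
  intro i j hi hj h
  exact congrArg Fin.val (hb.1 (a₁ := ⟨i, hi⟩) (a₂ := ⟨j, hj⟩) (Subtype.ext h))

theorem el_comm_iff {i j : ℕ} (hi : i < 576) (hj : j < 576) :
    el φ s i * el φ s j = el φ s j * el φ s i ↔ cm i j = true := by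
  rw [H.el_mul hi hj, H.el_mul hj hi]
  refine ⟨fun h => ?_, fun h => congrArg _ (Nat.eq_of_beq_eq_true h)⟩
  show Nat.beq (T i j) (T j i) = true
  rw [H.el_inj (H.T_lt hi hj) (H.T_lt hj hi) h]
  exact Nat.beq_refl _

theorem el_eq_one {i : ℕ} (hi : i < 576) : el φ s i = 1 ↔ i = 0 :=
  ⟨fun h => H.el_inj hi (by norm_num) (h.trans H.el_zero.symm), fun h => h ▸ H.el_zero⟩

theorem t_sq : φ (slm 3) * φ (slm 3) = 1 := by
  rw [← map_mul, (slm_mul (by norm_num) (by norm_num)).2]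
  convert map_one φ
  decide +kernel

theorem t_ne : φ (slm 3) ≠ 1 := by
  rw [← H.el_three, Ne, H.el_eq_one (by norm_num)]
  norm_num

theorem isInv_iff {i : ℕ} (hi : i < 576) : orderOf (el φ s i) = 2 ↔ isInv i = true := by
  rw [orderOf_eq_prime_iff, pow_two, H.el_mul hi hi, Ne, H.el_eq_one hi, H.el_eq_one (H.T_lt hi hi)]
  simp [isInv, Bool.eq_false_iff, and_comm]

/-- The exchange may be replaced by its product with `t`. -/
theorem swap : Hyp φ (s * φ (slm 3)) := by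
  have hc : Commute s (φ (slm 3)) := mul_inv_eq_iff_eq_mul.1 H.sigma_z
  have hσ : ∀ g, (s * φ (slm 3)) * φ g * (s * φ (slm 3))⁻¹ = s * φ g * s⁻¹ := by
    intro g
    obtain ⟨k, hk, rfl⟩ := slm_surj g
    have e : ∀ p < 24, sS 3 p = sS p 3 := by decide +kernel
    have h : φ (slm 3) * φ (slm k) = φ (slm k) * φ (slm 3) := by
      rw [← map_mul, ← map_mul, (slm_mul (by norm_num) hk).2, (slm_mul hk (by norm_num)).2, e k hk]
    rw [mul_inv_rev, mul_assoc s, h]
    group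
  have P' : Pre φ (s * φ (slm 3)) := by
    refine ⟨fun g h => by rw [hσ]; exact H.comm g h, ?_, by rw [hσ]; exact H.z⟩
    calc s * φ (slm 3) * (s * φ (slm 3)) = s * (φ (slm 3) * s) * φ (slm 3) := by group
      _ = (s * s) * (φ (slm 3) * φ (slm 3)) := by rw [← hc.eq]; group
      _ = 1 := by rw [H.sq, H.t_sq, one_mul]
  refine ⟨P', fun g hg => ?_, H.card⟩
  obtain ⟨i, hi, rfl⟩ := H.mem g hg
  obtain ⟨-, -, -, a1, a2⟩ := iv_spec hi
  rcases (show i / 288 = 0 ∨ i / 288 = 1 by omega) with he | he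
  · refine ⟨i, hi, ?_⟩
    unfold el
    rw [hσ, he, pow_zero, pow_zero]
  · obtain ⟨h1, h2⟩ := slm_mul (k := 3) (l := p1 i) (by norm_num) a1
    refine ⟨enc 1 (sS 3 (p1 i)) (p2 i), (enc_spec (by norm_num) h1 a2).1, ?_⟩
    rw [P'.el_enc (by norm_num) h1 a2, hσ]
    unfold el
    rw [he, pow_one, pow_one, ← h2, map_mul]
    have e1 : Commute (φ (slm 3)) (φ (slm (p1 i)) * (s * φ (slm (p2 i)) * s⁻¹)) := by
      refine Commute.mul_right ?_ (H.comm _ _)
      refine Commute.map ?_ φ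
      have e : ∀ p < 24, sS 3 p = sS p 3 := by decide +kernel
      show slm 3 * slm (p1 i) = slm (p1 i) * slm 3
      rw [h2, (slm_mul a1 (by norm_num)).2, e _ a1]
    calc φ (slm 3) * φ (slm (p1 i)) * (s * φ (slm (p2 i)) * s⁻¹) * (s * φ (slm 3))
        = (φ (slm 3) * (φ (slm (p1 i)) * (s * φ (slm (p2 i)) * s⁻¹))) * (φ (slm 3) * s) := by
          rw [← hc.eq]; group
      _ = (φ (slm (p1 i)) * (s * φ (slm (p2 i)) * s⁻¹)) * (φ (slm 3) * φ (slm 3)) * s := by rw [e1.eq]; group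
      _ = _ := by rw [H.t_sq, mul_one]

end Hyp

/-! ### The instance in `PSp₄(3)` -/

/-- The quotient map. -/
noncomputable abbrev π4 : G4 (ZMod 3) →* Cfsg.PSp 2 (ZMod 3) := QuotientGroup.mk' _

/-- The first copy. -/
noncomputable def φ0 : SL3 →* Cfsg.PSp 2 (ZMod 3) := π4.comp (emb 0)

/-- The exchange. -/
noncomputable def s0 : Cfsg.PSp 2 (ZMod 3) := π4 swap4

theorem neg_mem_center : (emb 0 (dd (-1)) * emb 1 (dd (-1)) : G4 (ZMod 3)) ∈ Subgroup.center (G4 (ZMod 3)) ∧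
    ∀ v, mv (emb 0 (dd (-1)) * emb 1 (dd (-1)) : G4 (ZMod 3)) v = -v := by
  have h : ∀ v, mv (emb 0 (dd (-1)) * emb 1 (dd (-1)) : G4 (ZMod 3)) v = -v := fun v => by
    rw [← io_surj v, mv_mul, emb1_io, emb0_io]
    simp [io, mA, dd_val]
    abel
  refine ⟨Subgroup.mem_center_iff.2 fun g => ext_mv fun v => ?_, h⟩
  rw [mv_mul g _ v, h, mv_mul _ g v, h, ← neg_one_smul (ZMod 3) v, mv_smul, neg_one_smul]

theorem pre0 : Pre φ0 s0 := by
  have hσ : ∀ g, s0 * φ0 g * s0⁻¹ = π4 (emb 1 g) := fun g => by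
    show π4 swap4 * π4 (emb 0 g) * (π4 swap4)⁻¹ = _
    rw [← map_inv, ← map_mul, ← map_mul, swap4_emb]
  refine ⟨fun g h => ?_, ?_, ?_⟩
  · rw [hσ]
    exact Commute.map (Fx_commute (P := fun k : Fin 2 => k = 0) (Q := fun k : Fin 2 => k = 1)
      (fun k h0 h1 => by simp_all) (emb_mem 0 g) (emb_mem 1 h)) π4
  · show π4 swap4 * π4 swap4 = 1
    rw [← map_mul, swap4_sq, map_one]
  · rw [hσ, slm_special.2.1]
    show π4 (emb 0 _) * π4 (emb 1 _) = 1
    rw [← map_mul]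
    exact (QuotientGroup.eq_one_iff _).2 neg_mem_center.1

/-- An element commuting with the reflection in the first plane. -/
theorem exists_pair {g : G4 (ZMod 3)} (hg : Commute g (emb 0 (dd (-1)))) :
    ∃ a b : SL3, g = emb 0 a * emb 1 b := by
  have hev : mv g (ev (1 : Fin 2)) (Sum.inl 0) = 0 ∧ mv g (ev (1 : Fin 2)) (Sum.inr 0) = 0 ∧
      mv g (fv (1 : Fin 2)) (Sum.inl 0) = 0 ∧ mv g (fv (1 : Fin 2)) (Sum.inr 0) = 0 := by
    have key : ∀ v : Vec (ZMod 3) 2, mv (emb 0 (dd (-1)) : G4 (ZMod 3)) v = v →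
        mv g v (Sum.inl 0) = 0 ∧ mv g v (Sum.inr 0) = 0 := by
      intro v hv
      have h1 : mv (emb 0 (dd (-1)) : G4 (ZMod 3)) (mv g v) = mv g v := by
        rw [← mv_mul, ← hg.eq, mv_mul, hv]
      rw [mv_emb] at h1
      have a := congrFun h1 (Sum.inl 0)
      have b := congrFun h1 (Sum.inr 0)
      simp [dd_val, ev, fv] at a b
      exact ⟨a.resolve_left (by decide), b.resolve_left (by decide)⟩
    have e1 : mv (emb 0 (dd (-1)) : G4 (ZMod 3)) (ev 1) = ev 1 := (emb_mem (0 : Fin 2) _ 1 (by decide)).1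
    have e2 : mv (emb 0 (dd (-1)) : G4 (ZMod 3)) (fv 1) = fv 1 := (emb_mem (0 : Fin 2) _ 1 (by decide)).2
    exact ⟨(key _ e1).1, (key _ e1).2, (key _ e2).1, (key _ e2).2⟩
  obtain ⟨z1, z2, z3, z4⟩ := hev
  have hd : mv g (ev (1 : Fin 2)) (Sum.inl 1) * mv g (fv (1 : Fin 2)) (Sum.inr 1) -
      mv g (fv (1 : Fin 2)) (Sum.inl 1) * mv g (ev (1 : Fin 2)) (Sum.inr 1) = 1 := by
    have h := bil_mv g (ev (1 : Fin 2)) (fv 1)
    rw [bil_ef, bil_apply, Fin.sum_univ_two, z1, z2, z3, z4] at h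
    linear_combination h
  let b : SL3 := ⟨!![mv g (ev (1 : Fin 2)) (Sum.inl 1), mv g (fv (1 : Fin 2)) (Sum.inl 1);
    mv g (ev (1 : Fin 2)) (Sum.inr 1), mv g (fv (1 : Fin 2)) (Sum.inr 1)],
    by rw [Matrix.det_fin_two_of]; exact hd⟩
  have hfix : g⁻¹ * emb 1 b ∈ Fx (F := ZMod 3) (n := 2) (fun k => k = 0) := by
    intro k hk
    obtain rfl : k = 1 := by revert hk; fin_cases k <;> simp
    have e1 : mv (emb 1 b) (ev (1 : Fin 2)) = mv g (ev 1) := by
      funext i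
      rw [mv_emb]
      rcases i with j | j <;> fin_cases j <;> simp [b, ev, fv, z1, z2]
    have e2 : mv (emb 1 b) (fv (1 : Fin 2)) = mv g (fv 1) := by
      funext i
      rw [mv_emb]
      rcases i with j | j <;> fin_cases j <;> simp [b, ev, fv, z3, z4]
    constructor <;> rw [mv_mul]
    · rw [e1, ← mv_mul, inv_mul_cancel, mv_one]
    · rw [e2, ← mv_mul, inv_mul_cancel, mv_one]
  obtain ⟨a, ha⟩ := exists_emb hfix
  refine ⟨a⁻¹, b, ?_⟩
  have hc : Commute (emb 0 a) (emb 1 b : G4 (ZMod 3)) :=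
    Fx_commute (P := fun k : Fin 2 => k = 0) (Q := fun k : Fin 2 => k = 1)
      (fun k h0 h1 => by simp_all) (emb_mem 0 a) (emb_mem 1 b)
  rw [map_inv, hc.inv_left.eq, ha]
  group

theorem mem0 {g : Cfsg.PSp 2 (ZMod 3)} (hg : g * φ0 (slm 3) = φ0 (slm 3) * g) :
    ∃ i < 576, el φ0 s0 i = g := by
  obtain ⟨g, rfl⟩ := QuotientGroup.mk'_surjective _ g
  set z : G4 (ZMod 3) := emb 0 (dd (-1))
  have hz : φ0 (slm 3) = π4 z := by rw [slm_special.2.1]; rfl
  rw [hz, ← map_mul, ← map_mul] at hg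
  have hc := QuotientGroup.eq.1 hg
  have hsplit : Commute g z ∨ Commute (swap4 * g) z := by
    rcases center_cases hc with h | h
    · left
      rw [inv_mul_eq_one] at h
      exact h
    · right
      have e : z * g = (g * z) * (emb 0 (dd (-1)) * emb 1 (dd (-1))) := by
        rw [← inv_mul_eq_iff_eq_mul]
        exact ext_mv fun v => by rw [h v, neg_mem_center.2]
      have e1 : swap4 * z = emb 1 (dd (-1)) * swap4 := by rw [← swap4_emb]; simp only [z]; group
      have e2 : z * (swap4 : G4 (ZMod 3)) = swap4 * emb 1 (dd (-1)) := by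
        have h0 : (swap4 : G4 (ZMod 3)) * emb 1 (dd (-1)) * swap4⁻¹ = z := by
          rw [← swap4_emb, show (swap4 : G4 (ZMod 3))⁻¹ = swap4 from inv_eq_of_mul_eq_one_left swap4_sq]
          calc swap4 * (swap4 * emb 0 (dd (-1)) * swap4) * swap4
              = (swap4 * swap4) * emb 0 (dd (-1)) * (swap4 * swap4) := by group
            _ = z := by rw [swap4_sq, one_mul, mul_one]
        rw [← h0]; group
      have hN := Subgroup.mem_center_iff.1 neg_mem_center.1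
      show swap4 * g * z = z * (swap4 * g)
      have hzz : z * z = 1 := by
        rw [← map_mul, show dd (-1) * dd (-1) = (1 : SL3) by decide +kernel, map_one]
      calc swap4 * g * z = swap4 * (g * z) := mul_assoc _ _ _
        _ = swap4 * ((z * g) * (emb 0 (dd (-1)) * emb 1 (dd (-1)))⁻¹) := by rw [e]; group
        _ = swap4 * ((emb 0 (dd (-1)) * emb 1 (dd (-1)))⁻¹ * (z * g)) := by
            congr 1
            exact (Subgroup.mem_center_iff.1 (inv_mem neg_mem_center.1) _)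
        _ = swap4 * (emb 1 (dd (-1)))⁻¹ * g := by simp only [z]; group
        _ = swap4 * emb 1 (dd (-1)) * g := by
            rw [show (emb 1 (dd (-1)) : G4 (ZMod 3))⁻¹ = emb 1 (dd (-1)) by
              rw [← map_inv]; congr 1; decide +kernel]
        _ = z * (swap4 * g) := by rw [← e2]; group
  rcases hsplit with h | h
  · obtain ⟨a, b, rfl⟩ := exists_pair h
    obtain ⟨p, hp, rfl⟩ := slm_surj a
    obtain ⟨q, hq, rfl⟩ := slm_surj b
    refine ⟨enc 0 p q, (enc_spec (by norm_num) hp hq).1, ?_⟩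
    rw [pre0.el_enc (by norm_num) hp hq, pow_zero, mul_one]
    show π4 _ * (π4 _ * π4 _ * (π4 _)⁻¹) = _
    rw [← map_inv, ← map_mul, ← map_mul, ← map_mul, swap4_emb]
  · obtain ⟨a, b, hab⟩ := exists_pair h
    obtain ⟨p, hp, rfl⟩ := slm_surj b
    obtain ⟨q, hq, rfl⟩ := slm_surj a
    refine ⟨enc 1 p q, (enc_spec (by norm_num) hp hq).1, ?_⟩
    rw [pre0.el_enc (by norm_num) hp hq, pow_one]
    have hsi : (swap4 : G4 (ZMod 3))⁻¹ = swap4 := inv_eq_of_mul_eq_one_left swap4_sq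
    have hg' : g = emb 0 (slm p) * (swap4 * emb 0 (slm q) * swap4⁻¹) * swap4 := by
      have h1 : g = swap4 * (emb 0 (slm q) * emb 1 (slm p)) := by
        rw [← hab, ← mul_assoc, swap4_sq, one_mul]
      rw [h1, ← swap4_emb (slm p)]
      have hc2 : Commute (emb 0 (slm p)) (swap4 * emb 0 (slm q) * swap4⁻¹ : G4 (ZMod 3)) := by
        rw [swap4_emb]
        exact Fx_commute (P := fun k : Fin 2 => k = 0) (Q := fun k : Fin 2 => k = 1)
          (fun k h0 h1 => by simp_all) (emb_mem 0 _) (emb_mem 1 _)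
      rw [hc2.eq, hsi]
      simp only [mul_assoc]
    rw [hg']
    show π4 _ * (π4 _ * π4 _ * (π4 _)⁻¹) * π4 _ = _
    simp only [← map_inv, ← map_mul]

theorem ker0 {i : ℕ} (hi : i < 576) (h : el φ0 s0 i = 1) : i = 0 := by
  obtain ⟨-, -, -, a1, a2⟩ := iv_spec hi
  have h' : π4 (emb 0 (slm (p1 i)) * emb 1 (slm (p2 i)) * swap4 ^ (i / 288)) = 1 := by
    rw [← h]
    show _ = π4 _ * (π4 _ * π4 _ * (π4 _)⁻¹) * π4 swap4 ^ _
    simp only [← map_inv, ← map_mul, ← map_pow, swap4_emb]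
  have hcent := (QuotientGroup.eq_one_iff _).1 h'
  obtain ⟨c, hc, hv⟩ : ∃ c : ZMod 3, (c = 1 ∨ c = -1) ∧
      ∀ v, mv (emb 0 (slm (p1 i)) * emb 1 (slm (p2 i)) * swap4 ^ (i / 288) : G4 (ZMod 3)) v = c • v := by
    rcases center_cases hcent with e | e
    · exact ⟨1, Or.inl rfl, fun v => by rw [e, mv_one, one_smul]⟩
    · exact ⟨-1, Or.inr rfl, fun v => by rw [e, neg_one_smul]⟩
  rcases (show i / 288 = 0 ∨ i / 288 = 1 by omega) with he | he
  · have main : ∀ (u : ZMod 3 × ZMod 3), mA (slm (p1 i)) u = c • u ∧ mA (slm (p2 i)) u = c • u := by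
      intro u
      have hu := hv (io (u, u.1, u.2))
      rw [he, pow_zero, mul_one, mv_mul, emb1_io, emb0_io] at hu
      have e : io (mA (slm (p1 i)) u, (slm (p2 i)).1 0 0 * u.1 + (slm (p2 i)).1 0 1 * u.2,
          (slm (p2 i)).1 1 0 * u.1 + (slm (p2 i)).1 1 1 * u.2) = io (c • u, c * u.1, c * u.2) := by
        rw [hu]; simp [io, smul_smul, smul_add, mul_comm]
      have e' := io_injective e
      simp only [Prod.mk.injEq] at e'
      exact ⟨e'.1, Prod.ext (by simpa [mA] using e'.2.1) (by simpa [mA] using e'.2.2)⟩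
    have hk : ∀ c : ZMod 3, ∀ k < 24, mA (slm k) (1, 0) = c • (1, 0) → mA (slm k) (0, 1) = c • (0, 1) →
        (k = 0 ∧ c = 1) ∨ (k = 3 ∧ c = -1) := by
      decide +kernel
    have hj : ∀ j < 288, p1 j ≠ 3 ∧ (p1 j = 0 → p2 j = 0 → j = 0) := by decide +kernel
    obtain ⟨hj1, hj2⟩ := hj i (by omega)
    rcases hk c _ a1 (main _).1 (main _).1 with ⟨e1, hc1⟩ | ⟨e1, -⟩
    · rcases hk c _ a2 (main _).2 (main _).2 with ⟨e2, -⟩ | ⟨-, hc2⟩
      · exact hj2 e1 e2
      · exact absurd (hc1.symm.trans hc2) (by decide)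
    · exact absurd e1 hj1
  · exfalso
    have hu := hv (io ((1, 0), 0, 0))
    rw [he, pow_one, mv_mul, mv_mul, swap4_io, emb1_io, emb0_io] at hu
    have e : io (mA (slm (p1 i)) (0, 0), (slm (p2 i)).1 0 0 * 1 + (slm (p2 i)).1 0 1 * 0,
        (slm (p2 i)).1 1 0 * 1 + (slm (p2 i)).1 1 1 * 0) = io ((c, 0), (0 : ZMod 3), 0) := by
      rw [hu]; simp [io, smul_add, smul_smul]
    have e' := congrArg (fun p => p.1.1) (io_injective e)
    simp [mA] at e'
    rcases hc with rfl | rfl <;> exact absurd e'.symm (by decide)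

theorem hyp0 : Hyp φ0 s0 := by
  refine ⟨pre0, fun g => mem0, ?_⟩
  have hinj : ∀ i < 576, ∀ j < 576, el φ0 s0 i = el φ0 s0 j → i = j := by
    intro i hi j hj h
    have hk := ker0 (pre0.T_lt (iv_spec hi).1 hj) (by
      rw [← pre0.el_mul (iv_spec hi).1 hj, ← pre0.el_inv hi, h, inv_mul_cancel])
    have := allN_spec (allN_spec c_cancel i hi) j hj
    rw [hk] at this
    simpa using this
  have hcom : ∀ i < 576, el φ0 s0 i * φ0 (slm 3) = φ0 (slm 3) * el φ0 s0 i := by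
    intro i hi
    have e : ∀ i < 576, T i 3 = T 3 i := by decide +kernel
    rw [← pre0.el_three, pre0.el_mul hi (by norm_num), pre0.el_mul (by norm_num) hi, e i hi]
  let f : Fin 576 → Subgroup.centralizer ({φ0 (slm 3)} : Set (Cfsg.PSp 2 (ZMod 3))) := fun i =>
    ⟨el φ0 s0 i, Subgroup.mem_centralizer_iff.2 fun x hx => by
      rw [Set.mem_singleton_iff] at hx
      rw [hx, hcom i i.2]⟩
  have hf : Function.Bijective f := by
    refine ⟨fun a b h => Fin.ext (hinj a a.2 b b.2 (congrArg Subtype.val h)), fun g => ?_⟩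
    obtain ⟨i, hi, e⟩ := mem0 ((Subgroup.mem_centralizer_iff.1 g.2 _ rfl).symm)
    exact ⟨⟨i, hi⟩, Subtype.ext e⟩
  rw [← Nat.card_eq_of_bijective f hf, Nat.card_fin]

end Cfsg.Agent.PspInv
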