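import Cfsg.Agent.Lib.PspInv.Fusion
import Cfsg.Agent.Lib.S3342Id.PSp

/-!
The short root element: an element `x` of order 3 centralised by the exchange and inverted by `t`, the relations
of `PSp₄(3)` and the embedding.
-/

set_option autoImplicit false
set_option maxRecDepth 20000
set_option synthInstance.maxSize 10000
set_option linter.unusedSectionVars false
set_option linter.style.haveILetI false

namespace Cfsg.Agent.PspInv

open Cfsg.Agent.SpAmalgam Cfsg.Agent.SpAmalgam.Four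
open Cfsg.Agent.Hayden (slm sS sI)
open Cfsg.Agent.Golay.Local (allF anyF memF allF_iff anyF_iff memF_iff)

theorem c_root : (Nat.beq (cj 288 25) 25 && Nat.beq (cj 288 26) (iv 26) && cm 26 3 && cm 26 25 &&
    Nat.beq (T (T 26 26) 26) 0 && Nat.beq (T (T 24 24) 24) 0 && Nat.beq (T (T 1 1) 1) 0 && cm 1 24 &&
    Nat.beq (T 25 26) 48 && Nat.beq (T 24 24) 48 && Nat.beq (T 50 26) 1 && cm 6 24 &&
    !(Nat.beq (T 6 6) 0) && Nat.beq (T (T 6 6) (T 6 6)) 0 && Nat.beq (enc 0 0 9) 9 && cm 24 9) = true := by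
  decide +kernel

theorem c_centre : allN (fun i => !(cm i 24 && cm i 1 && cm i (enc 0 9 0) && cm i 9) || Nat.beq i 0 ||
    Nat.beq i 3) 576 = true := by
  decide +kernel

theorem uu_neg_one : (uu (-1) : SL3) = (uu 1)⁻¹ := by decide +kernel

/-- The powers of an element of order dividing three. -/
theorem zpowers_three {G : Type*} [Group G] {g z : G} (hg : g ^ 3 = 1) (hz : z ∈ Subgroup.zpowers g) :
    z = 1 ∨ z = g ∨ z = g⁻¹ := by
  obtain ⟨n, rfl⟩ := Subgroup.mem_zpowers_iff.1 hz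
  have e : ∀ m : ℤ, g ^ n = g ^ (n - 3 * m) := fun m => by
    rw [zpow_sub, zpow_mul, show g ^ (3 : ℤ) = 1 from (zpow_natCast g 3).trans hg]; simp
  rw [e (n / 3)]
  rcases (show n - 3 * (n / 3) = 0 ∨ n - 3 * (n / 3) = 1 ∨ n - 3 * (n / 3) = 2 by omega) with h | h | h
  · exact Or.inl (by rw [h, zpow_zero])
  · exact Or.inr (Or.inl (by rw [h, zpow_one]))
  · refine Or.inr (Or.inr ?_)
    rw [h, ← zpow_neg_one, eq_comm, ← mul_inv_eq_one, ← zpow_neg, ← zpow_add]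
    show g ^ ((-1 : ℤ) + -2) = 1
    rw [show ((-1 : ℤ) + -2) = -(3 : ℤ) by norm_num, zpow_neg, show g ^ (3 : ℤ) = 1 from (zpow_natCast g 3).trans hg,
      inv_one]

theorem pow_six {G : Type*} [Group G] (g : G) : g ^ 6 = g * g * (g * g) * (g * g) := by
  simp only [pow_succ, pow_zero, one_mul, mul_assoc]

/-- An element of odd order fixed by an inverting map is trivial. -/
theorem eq_one_of_eq_inv {G : Type*} [Group G] {z : G} (h3 : z ^ 3 = 1) (h : z = z⁻¹) : z = 1 :=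
  eq_one_of_sq_of_odd ⟨1, rfl⟩ (by nth_rw 1 [h]; exact inv_mul_cancel z) h3

/-- The action of the upper unitriangular matrix on the natural module, read in the abelian quotient. -/
theorem natural_step {M : Type*} [CommGroup M] (A N : M →* M) {x y : M} (hx3 : x ^ 3 = 1) (hx1 : x ≠ 1)
    (hAx : A x = x) (hNx : N x = y) (hNy : N y = x⁻¹) (hA3 : A (A (A y)) = y) (hN1 : N (A y) = A (A y))
    (hN2 : N (A (A y)) = (A y)⁻¹) (hfix : ∀ m, A m = m → m ∈ Subgroup.zpowers x) : A y = y * x := by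
  have hy3 : y ^ 3 = 1 := by rw [← hNx, ← map_pow, hx3, map_one]
  have hp3 : (A y) ^ 3 = 1 := by rw [← map_pow, hy3, map_one]
  have hxi : x ≠ x⁻¹ := fun h => hx1 (eq_one_of_eq_inv hx3 h)
  have hA2x : A (A x⁻¹) = x⁻¹ := by rw [map_inv, hAx, map_inv, hAx]
  have hsum : A (y * A y * A (A y)) = y * A y * A (A y) := by
    rw [map_mul, map_mul, hA3]; ac_rfl
  have hk := zpowers_three hx3 (hfix _ hsum)
  set p := A y with hp
  set q := A p with hq
  have hk2 : ∀ r, y * p * q = r → x⁻¹ * q * p⁻¹ = N r := fun r h => by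
    rw [← h, map_mul, map_mul, hNy, hN1, hN2]
  rcases hk with h | h | h
  · have h2 := hk2 _ h
    rw [map_one, mul_inv_eq_one, inv_mul_eq_iff_eq_mul] at h2
    rw [h2] at h
    have e : p ^ 2 = (y * x)⁻¹ := eq_inv_of_mul_eq_one_left (by rw [pow_two, ← h]; ac_rfl)
    calc p = (p ^ 2)⁻¹ * p ^ 3 := by group
      _ = y * x := by rw [e, hp3, inv_inv, mul_one]
  · have h2 := hk2 _ h
    rw [hNx, mul_inv_eq_iff_eq_mul, inv_mul_eq_iff_eq_mul] at h2
    rw [h2] at h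
    have e : p ^ 2 = (y ^ 2)⁻¹ := eq_inv_of_mul_eq_one_left (by
      have : y * p * (x * (y * p)) * x⁻¹ = 1 := by rw [h, mul_inv_cancel]
      rw [← this, pow_two, pow_two, mul_comm x (y * p)]
      simp only [mul_assoc, mul_inv_cancel, mul_one]
      ac_rfl)
    have hpy : p = y⁻¹ := by
      calc p = (p ^ 2)⁻¹ * p ^ 3 := by group
        _ = y ^ 2 := by rw [e, hp3, inv_inv, mul_one]
        _ = y⁻¹ := eq_inv_of_mul_eq_one_left (by rw [← pow_succ]; exact hy3)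
    have hqy : q = y := by rw [hq, hpy, map_inv, ← hp, hpy, inv_inv]
    have hy1 : y = 1 := eq_one_of_eq_inv hy3 (by
      conv_lhs => rw [← hA3]
      rw [hqy, ← hp, hpy])
    rw [hy1, map_one] at hNy
    exact absurd (inv_eq_one.1 hNy.symm) hx1
  · exfalso
    have h2 := hk2 _ h
    rw [map_inv, hNx, mul_inv_eq_iff_eq_mul, inv_mul_eq_iff_eq_mul] at h2
    rw [h2] at h
    have e : p ^ 2 = (x ^ 2)⁻¹ := by
      refine eq_inv_of_mul_eq_one_left ?_
      have : y * p * (x * (y⁻¹ * p)) * x = 1 := by rw [h, inv_mul_cancel]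
      rw [← this, pow_two, pow_two]
      calc p * p * (x * x) = (y * y⁻¹) * (p * p * (x * x)) := by rw [mul_inv_cancel, one_mul]
        _ = _ := by ac_rfl
    have hpx : p = x⁻¹ := by
      calc p = (p ^ 2)⁻¹ * p ^ 3 := by group
        _ = x ^ 2 := by rw [e, hp3, inv_inv, mul_one]
        _ = x⁻¹ := eq_inv_of_mul_eq_one_left (by rw [← pow_succ]; exact hx3)
    have hyx : y = x⁻¹ := by rw [← hA3, hq, hpx]; exact hA2x
    rw [hyx, map_inv, hNx, hyx, inv_inv] at hNy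
    exact hxi hNy

variable {G : Type*} [Group G]

namespace Conf

variable {φ : SL3 →* G} {s : G} (C : Conf φ s)
include C

theorem root_facts :
    Commute (el φ s 25) s ∧ s * el φ s 26 * s⁻¹ = (el φ s 26)⁻¹ ∧ Commute (el φ s 26) (φ (slm 3)) ∧
      Commute (el φ s 26) (el φ s 25) ∧ el φ s 26 ^ 3 = 1 ∧ el φ s 24 ^ 3 = 1 ∧ el φ s 1 ^ 3 = 1 ∧
      Commute (el φ s 1) (el φ s 24) := by
  have h := c_root
  simp only [Bool.and_eq_true, beq_iff] at h
  obtain ⟨⟨⟨⟨⟨⟨⟨⟨⟨⟨⟨⟨⟨⟨⟨h1, h2⟩, h3⟩, h4⟩, h5⟩, h6⟩, h7⟩, h8⟩, -⟩, -⟩, -⟩, -⟩, -⟩, -⟩, -⟩, -⟩ := h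
  have cube : ∀ {i}, i < 576 → T (T i i) i = 0 → el φ s i ^ 3 = 1 := fun {i} hi e => by
    rw [pow_succ, pow_two, C.el_mul hi hi, C.el_mul (C.T_lt hi hi) hi, e, C.el_zero]
  have hs := C.el_s
  refine ⟨?_, ?_, ?_, (C.el_comm_iff (by norm_num) (by norm_num)).2 h4, cube (by norm_num) h5,
    cube (by norm_num) h6, cube (by norm_num) h7, (C.el_comm_iff (by norm_num) (by norm_num)).2 h8⟩
  · refine (mul_inv_eq_iff_eq_mul.1 ?_).symm
    have := C.el_cj (h := 288) (i := 25) (by norm_num) (by norm_num)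
    rwa [hs, h1] at this
  · have := C.el_cj (h := 288) (i := 26) (by norm_num) (by norm_num)
    rwa [hs, h2, ← C.el_inv (by norm_num)] at this
  · exact C.commutes (by norm_num)

theorem d_eq : el φ s 25 = el φ s 24 * el φ s 1 ∧ el φ s 26 = el φ s 24 * (el φ s 1)⁻¹ := by
  have h := c_d
  simp only [Bool.and_eq_true, beq_iff] at h
  obtain ⟨⟨⟨⟨⟨⟨⟨-, -⟩, -⟩, h1⟩, h2⟩, -⟩, -⟩, -⟩ := h
  constructor
  · rw [C.el_mul (by norm_num) (by norm_num), h1]
  · rw [C.el_inv (by norm_num), C.el_mul (by norm_num) (iv_spec (by norm_num)).1, h2]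

theorem d_cube : el φ s 25 ^ 3 = 1 := by
  obtain ⟨-, -, -, -, -, h6, h7, h8⟩ := C.root_facts
  rw [C.d_eq.1, h8.symm.mul_pow, h6, h7, one_mul]

theorem a_conj : s * el φ s 24 * s⁻¹ = el φ s 1 ∧ s * el φ s 1 * s⁻¹ = el φ s 24 := by
  refine ⟨by rw [C.el_a, C.el_a'], ?_⟩
  rw [C.el_a, C.el_a']
  calc s * (s * φ (uu 1) * s⁻¹) * s⁻¹ = (s * s) * φ (uu 1) * (s * s)⁻¹ := by group
    _ = _ := by rw [C.sq]; group

theorem t_a : Commute (φ (slm 3)) (el φ s 24) ∧ Commute (φ (slm 3)) (el φ s 1) :=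
  ⟨(C.commutes (by norm_num) : Commute _ _).symm, (C.commutes (by norm_num) : Commute _ _).symm⟩

variable [Finite G]

theorem ep_three : ep φ s 3 = φ (slm 3) * s := by
  calc ep φ s 3 = ep φ s (Nat.xor 1 2) := rfl
    _ = ep φ s 1 * ep φ s 2 := (C.ep_mul (by norm_num) (by norm_num)).symm
    _ = _ := by rw [C.ep_one, C.ep_two]

/-- The centraliser of `d` meets that of `ts` in a group of order 12. -/
theorem cd_ts {g : G} (h1 : Commute g (el φ s 25)) (h2 : Commute g (ep φ s 3)) :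
    Commute g (φ (slm 3)) ∧ Commute g s ∧ g ^ 6 = 1 ∧
      (g * g = 1 → g = 1 ∨ g = φ (slm 3) ∨ g = s ∨ g = ep φ s 3) ∧
      (g ^ 3 = 1 → g ∈ Subgroup.zpowers (el φ s 25)) := by
  obtain ⟨c, hc⟩ := C.exists_code (C.cent_ten (by decide : (3 : ℕ) ∈ P10) h2)
  have hd := c_d
  simp only [Bool.and_eq_true, beq_iff] at hd
  obtain ⟨⟨⟨⟨⟨⟨⟨hn, -⟩, -⟩, -⟩, -⟩, hd2⟩, -⟩, hr⟩ := hd
  have h25 := C.act_el (by norm_num) hn
  have e := allF_iff.1 hr c (C.code_mem hc)
  have e3 : ap c 3 = 3 := C.ep_inj (ap_lt c 3) (by norm_num) (by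
    rw [← hc.2 3 (by norm_num), h2.eq, mul_inv_cancel_right])
  have ec : cmp c (codeH 25) = cmp (codeH 25) c := by
    refine C.act_unique (C.act_mul hc h25) ?_
    rw [h1.eq]
    exact C.act_mul h25 hc
  rw [e3, ec] at e
  simp only [Nat.beq_refl, Bool.and_self, Bool.not_true, Bool.false_or, beq_iff] at e
  have ht : Commute g (φ (slm 3)) := by
    refine mul_inv_eq_iff_eq_mul.1 ?_
    rw [← C.ep_one, hc.2 1 (by norm_num), e]
  have hs : Commute g s := by
    have : s = φ (slm 3) * ep φ s 3 := by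
      rw [← C.ep_one, C.ep_mul (by norm_num) (by norm_num)]
      exact C.ep_two.symm
    rw [this]
    exact ht.mul_right h2
  obtain ⟨i, hi, rfl⟩ := C.eq_el ht
  have hx := allN_spec c_cent_d i hi
  have hcs : cm i 288 = true := (C.el_comm_iff hi (by norm_num)).1 (C.el_s.symm ▸ hs)
  rw [(C.el_comm_iff hi (by norm_num)).1 h1, hcs] at hx
  simp only [Bool.not_true, Bool.false_or, Bool.and_eq_true, Bool.or_eq_true, beq_iff, memF_iff,
    Bool.not_eq_true', Bool.eq_false_iff, ne_eq, List.mem_cons, List.not_mem_nil, or_false] at hx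
  obtain ⟨⟨hx6, -⟩, hx2, hx3⟩ := hx
  have hsq : el φ s i * el φ s i = el φ s (T i i) := C.el_mul hi hi
  refine ⟨ht, hs, ?_, fun h => ?_, fun h => ?_⟩
  · rw [pow_six, hsq,
      C.el_mul (C.T_lt hi hi) (C.T_lt hi hi), C.el_mul (C.T_lt (C.T_lt hi hi) (C.T_lt hi hi)) (C.T_lt hi hi), hx6,
      C.el_zero]
  · rw [hsq, C.el_eq_one (C.T_lt hi hi)] at h
    have e3' : el φ s 291 = ep φ s 3 := rfl
    rcases hx2.resolve_left (not_not_intro h) with rfl | rfl | rfl | rfl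
    exacts [Or.inl C.el_zero, Or.inr (Or.inl C.el_three), Or.inr (Or.inr (Or.inl C.el_s)),
      Or.inr (Or.inr (Or.inr e3'))]
  · rw [pow_succ, pow_two, hsq, C.el_mul (C.T_lt hi hi) hi, C.el_eq_one (C.T_lt (C.T_lt hi hi) hi)] at h
    rcases hx3.resolve_left (not_not_intro h) with rfl | rfl | rfl
    · rw [C.el_zero]; exact one_mem _
    · exact Subgroup.mem_zpowers _
    · have := pow_mem (Subgroup.mem_zpowers (el φ s 25)) 2
      rwa [pow_two, C.el_mul (by norm_num) (by norm_num), hd2] at this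

/-- The centraliser of `d`: a normal complement of odd order to the four group, and its involutions. -/
theorem exists_Od : (∃ O : Subgroup G, (∀ g, Commute g (el φ s 25) → g ^ 3 = 1 → g ∈ O) ∧
      (∀ a ∈ O, ∀ b ∈ O, a * b * a⁻¹ * b⁻¹ ∈ Subgroup.zpowers (el φ s 25)) ∧
      (∀ o ∈ O, ep φ s 3 * o * (ep φ s 3)⁻¹ * o ∈ Subgroup.zpowers (el φ s 25)) ∧
      ∀ g, Commute g (el φ s 25) → (∃ n, Odd n ∧ g ^ n = 1) → g ∈ O) ∧
    ∀ y, Commute y (el φ s 25) → (∃ k : ℕ, y ^ 2 ^ k = 1) → y * y = 1 ∧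
      (TConj φ y → y ≠ 1 → ∃ l, Commute l (el φ s 25) ∧ (l * y * l⁻¹ = φ (slm 3) ∨ l * y * l⁻¹ = s)) := by
  set d := el φ s 25 with hd
  have h3 : ep φ s 3 = φ (slm 3) * s := C.ep_three
  have htd : Commute (φ (slm 3)) d := (C.commutes (by norm_num) : Commute _ _).symm
  have hsd : Commute s d := C.root_facts.1.symm
  let S : Subgroup G :=
    { carrier := {g | g ∈ ({1, φ (slm 3), s, ep φ s 3} : Set G)}
      one_mem' := Or.inl rfl
      mul_mem' := fun {a b} ha hb => by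
        have key : ∀ v ∈ [0, 1, 2, 3], ep φ s v ∈ ({1, φ (slm 3), s, ep φ s 3} : Set G) := by
          intro v hv
          simp only [List.mem_cons, List.not_mem_nil, or_false] at hv
          rcases hv with rfl | rfl | rfl | rfl <;> simp [C.ep_zero, C.ep_one, C.ep_two]
        have back : ∀ g ∈ ({1, φ (slm 3), s, ep φ s 3} : Set G), ∃ v ∈ [0, 1, 2, 3], g = ep φ s v := by
          rintro g (rfl | rfl | rfl | rfl)
          exacts [⟨0, by simp, C.ep_zero.symm⟩, ⟨1, by simp, C.ep_one.symm⟩, ⟨2, by simp, C.ep_two.symm⟩,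
            ⟨3, by simp, rfl⟩]
        obtain ⟨v, hv, rfl⟩ := back a ha
        obtain ⟨w, hw, rfl⟩ := back b hb
        have e : ∀ v ∈ [0, 1, 2, 3], v < 16 ∧ ∀ w ∈ [0, 1, 2, 3], Nat.xor v w ∈ [0, 1, 2, 3] := by decide
        show ep φ s v * ep φ s w ∈ _
        rw [C.ep_mul (e v hv).1 (e w hw).1]
        exact key _ ((e v hv).2 w hw)
      inv_mem' := fun {a} ha => by
        have : a⁻¹ = a := inv_eq_of_mul_eq_one_right (by
          rcases ha with rfl | rfl | rfl | rfl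
          exacts [one_mul 1, C.t_sq, C.sq, C.ep_sq (by norm_num)])
        show a⁻¹ ∈ _
        rwa [this] }
  set L := Subgroup.centralizer ({d} : Set G)
  have memL : ∀ {g}, g ∈ L ↔ Commute g d := fun {g} => by
    simp only [L, Subgroup.mem_centralizer_iff, Set.mem_singleton_iff, forall_eq]
    exact ⟨fun h => h.symm, fun h => h.symm⟩
  have hSsq : ∀ x ∈ S, x * x = 1 := by
    rintro x (rfl | rfl | rfl | rfl)
    exacts [one_mul 1, C.t_sq, C.sq, C.ep_sq (by norm_num)]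
  have hSL : S ≤ L := by
    rintro x (rfl | rfl | rfl | rfl)
    · exact memL.2 (Commute.one_left d)
    · exact memL.2 htd
    · exact memL.2 hsd
    · exact memL.2 (h3 ▸ htd.mul_left hsd)
  have hS2 : IsPGroup 2 S := fun a => ⟨1, Subtype.ext (by
    show (a : G) ^ 2 ^ 1 = 1
    rw [pow_one, pow_two]; exact hSsq a a.2)⟩
  have hT : TConj φ s := C.fused
  have h3T : ¬ TConj φ (ep φ s 3) := C.not_tconj (by decide)
  have hN : ∀ g ∈ L, (∀ x ∈ S, g * x * g⁻¹ ∈ S) → Commute g (ep φ s 3) := by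
    intro g _ hx
    refine mul_inv_eq_iff_eq_mul.1 ?_
    rcases hx _ (Or.inr (Or.inr (Or.inr rfl))) with h | h | h | h
    · exact absurd (show ep φ s 3 = 1 by rw [← conj_back h]; group) (C.ep_ne_one (by norm_num) (by norm_num))
    · exact absurd (TConj.of_conj (k := g) (h.symm ▸ ⟨1, by group⟩)) h3T
    · exact absurd (TConj.of_conj (k := g) (h.symm ▸ hT)) h3T
    · exact h
  have hmax : ∀ g ∈ L, (∀ x ∈ S, g * x * g⁻¹ ∈ S) → (∃ k : ℕ, g ^ 2 ^ k = 1) → g ∈ S := by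
    rintro g hg hx ⟨k, hk⟩
    obtain ⟨-, -, h6, h2, -⟩ := C.cd_ts (memL.1 hg) (hN g hg hx)
    have h22 : g * g = 1 := by
      rw [← pow_two]
      refine orderOf_dvd_iff_pow_eq_one.1 ?_
      have hdv := Nat.dvd_gcd (orderOf_dvd_of_pow_eq_one h6) (orderOf_dvd_of_pow_eq_one hk)
      refine hdv.trans ?_
      rcases k with - | k
      · simp
      · rw [pow_succ', show (6 : ℕ) = 2 * 3 from rfl, Nat.gcd_mul_left,
          Nat.Coprime.gcd_eq_one (Nat.Coprime.pow_right k (by norm_num))]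
    exact h2 h22
  obtain ⟨O, hOL, hodd, hOn, -, hall⟩ := exists_odd_complement hSL hS2 hmax fun g hg hx x hxS => by
    obtain ⟨ht, hs, -⟩ := C.cd_ts (memL.1 hg) (hN g hg hx)
    rcases hxS with rfl | rfl | rfl | rfl
    · group
    · rw [ht.eq, mul_inv_cancel_right]
    · rw [hs.eq, mul_inv_cancel_right]
    · rw [(hN g hg hx).eq, mul_inv_cancel_right]
  have hall' : ∀ g, Commute g d → (∃ n, Odd n ∧ g ^ n = 1) → g ∈ O := fun g hg h => hall g (memL.2 hg) h
  have hdO : d ∈ O := hall' d (Commute.refl d) ⟨3, ⟨1, rfl⟩, C.d_cube⟩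
  have hZ := Subgroup.zpowers_le.2 hdO
  have hab := abelian_mod (σ := ep φ s 3) hZ hodd (C.ep_sq (by norm_num))
    (fun o ho => hOn _ (hSL (Or.inr (Or.inr (Or.inr rfl)))) o ho)
    (fun z hz => by
      obtain ⟨n, rfl⟩ := Subgroup.mem_zpowers_iff.1 hz
      rw [((h3 ▸ htd.mul_left hsd : Commute (ep φ s 3) d).zpow_right n).eq, mul_inv_cancel_right])
    (fun z hz o ho => by
      obtain ⟨n, rfl⟩ := Subgroup.mem_zpowers_iff.1 hz
      exact ((memL.1 (hOL ho)).symm.zpow_left n).eq)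
    (fun o ho e => by
      obtain ⟨-, -, h6, -, h33⟩ := C.cd_ts (memL.1 (hOL ho)) (mul_inv_eq_iff_eq_mul.1 e).symm
      refine h33 (eq_one_of_sq_of_odd hodd ?_ ?_)
      · rw [← pow_add]; exact h6
      · rw [← pow_mul, mul_comm, pow_mul, pow_card_of_mem ho, one_pow])
  refine ⟨⟨O, fun g hg h => hall' g hg ⟨3, ⟨1, rfl⟩, h⟩, hab.1, hab.2, hall'⟩, fun y hy hy2 => ?_⟩
  obtain ⟨l, hl, hlS⟩ := exists_conj_mem hSL hS2 hmax (memL.2 hy) hy2
  refine ⟨?_, fun hyT hy1 => ⟨l, memL.1 hl, ?_⟩⟩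
  · have := hSsq _ hlS
    rw [← conj_back (rfl : l * y * l⁻¹ = _)]
    calc l⁻¹ * (l * y * l⁻¹) * l * (l⁻¹ * (l * y * l⁻¹) * l)
        = l⁻¹ * (l * y * l⁻¹ * (l * y * l⁻¹)) * l := by group
      _ = 1 := by rw [this]; group
  · rcases hlS with h | h | h | h
    · exact absurd (by rw [← conj_back h]; group) hy1
    · exact Or.inl h
    · exact Or.inr h
    · exact absurd (h ▸ hyT.conj l) h3T

/-- An element of the normaliser exchanging `t` and `s` and normalising `⟨d⟩`. -/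
theorem exists_h : ∃ h, h * φ (slm 3) * h⁻¹ = s ∧ h * s * h⁻¹ = φ (slm 3) ∧
    (h * el φ s 25 * h⁻¹ = el φ s 25 ∨ h * el φ s 25 * h⁻¹ = (el φ s 25)⁻¹) := by
  have hr := c_r60
  simp only [Bool.and_eq_true, allF_iff, anyF_iff, beq_iff] at hr
  obtain ⟨r, hr, hr1, hr2⟩ := hr.2
  obtain ⟨m, hm⟩ := C.exists_realise hr
  have mt : m * φ (slm 3) * m⁻¹ = s := by rw [← C.ep_one, hm.2 1 (by norm_num), hr1, C.ep_two]
  have ms : m * s * m⁻¹ = φ (slm 3) := by
    have := hm.2 2 (by norm_num)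
    rwa [C.ep_two, hr2, C.ep_one] at this
  have q1 : Commute (m * el φ s 25 * m⁻¹) (φ (slm 3)) := ms ▸ commute_conj C.root_facts.1 m
  have q2 : Commute (m * el φ s 25 * m⁻¹) s := mt ▸ commute_conj (C.commutes (by norm_num)) m
  obtain ⟨i, hi, he⟩ := C.eq_el q1
  have h3 : T (T i i) i = 0 := by
    rw [← C.el_eq_one (C.T_lt (C.T_lt hi hi) hi), ← C.el_mul (C.T_lt hi hi) hi, ← C.el_mul hi hi, he,
      ← pow_two, ← pow_succ, conj_pow, C.d_cube]
    group
  have hi0 : i ≠ 0 := by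
    rintro rfl
    have e : el φ s 25 = 1 := by rw [← conj_back he.symm, C.el_zero]; group
    exact absurd ((C.el_eq_one (by norm_num)).1 e) (by norm_num)
  have hc := allN_spec c_three_s i hi
  rw [(C.el_comm_iff hi (by norm_num)).1 (by rw [he, C.el_s]; exact q2), h3,
    show Nat.beq i 0 = false by rw [Bool.eq_false_iff, ne_eq, beq_iff]; exact hi0] at hc
  simp only [Bool.not_false, Bool.and_self, Nat.beq_refl, Bool.not_true, Bool.false_or] at hc
  obtain ⟨v, hv, hv'⟩ := anyN_spec hc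
  simp only [memF_iff, List.mem_cons, List.not_mem_nil, or_false] at hv'
  have hcj : ∀ g, ep φ s v * (m * g * m⁻¹) * (ep φ s v)⁻¹ = ep φ s v * m * g * (ep φ s v * m)⁻¹ := fun g => by group
  refine ⟨ep φ s v * m, ?_, ?_, ?_⟩
  · rw [← hcj, mt, (show Commute (ep φ s v) s by
      have := C.ep_comm (w := 2) hv (by norm_num); rwa [C.ep_two] at this).eq, mul_inv_cancel_right]
  · rw [← hcj, ms, (show Commute (ep φ s v) (φ (slm 3)) by
      have := C.ep_comm (w := 1) hv (by norm_num); rwa [C.ep_one] at this).eq,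
      mul_inv_cancel_right]
  · rw [← hcj, ← he, ep, C.el_cj (EL_spec hv).1 hi]
    rcases hv' with e | e <;> rw [e]
    · exact Or.inl rfl
    · refine Or.inr (eq_inv_of_mul_eq_one_left ?_)
      have hd := c_d
      simp only [Bool.and_eq_true, beq_iff] at hd
      rw [C.el_mul (by norm_num) (by norm_num), hd.1.2, C.el_zero]

/-- The short root element. -/
theorem exists_x : ∃ x h : G, x = h * el φ s 26 * h⁻¹ ∧ h * φ (slm 3) * h⁻¹ = s ∧ h * s * h⁻¹ = φ (slm 3) ∧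
    (h * el φ s 25 * h⁻¹ = el φ s 25 ∨ h * el φ s 25 * h⁻¹ = (el φ s 25)⁻¹) ∧
    Commute x s ∧ Commute x (el φ s 25) ∧ φ (slm 3) * x * (φ (slm 3))⁻¹ = x⁻¹ ∧ x ^ 3 = 1 ∧ x ≠ 1 ∧
    Commute x (el φ s 24) ∧ Commute x (el φ s 1) := by
  obtain ⟨-, hes, het, hed, he3, ha3, -, haa⟩ := C.root_facts
  obtain ⟨h, h1, h2, h3⟩ := C.exists_h
  set x := h * el φ s 26 * h⁻¹ with hx
  have hxs : Commute x s := h1 ▸ commute_conj het h
  have hxd : Commute x (el φ s 25) := by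
    have := commute_conj hed h
    rcases h3 with e | e <;> rw [e] at this
    · exact this
    · exact inv_inv (el φ s 25) ▸ this.inv_right
  have hxt : φ (slm 3) * x * (φ (slm 3))⁻¹ = x⁻¹ := by
    rw [← h2, hx]
    calc h * s * h⁻¹ * (h * el φ s 26 * h⁻¹) * (h * s * h⁻¹)⁻¹ = h * (s * el φ s 26 * s⁻¹) * h⁻¹ := by group
      _ = _ := by rw [hes]; group
  have hx3 : x ^ 3 = 1 := by rw [hx, conj_pow, he3]; group
  have hx1 : x ≠ 1 := fun e => by
    have e' : el φ s 26 = 1 := by rw [show el φ s 26 = h⁻¹ * x * h by rw [hx]; group, e]; group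
    exact absurd ((C.el_eq_one (by norm_num)).1 e') (by norm_num)
  obtain ⟨⟨O, hO3, hOc, -, -⟩, -⟩ := C.exists_Od
  have had : Commute (el φ s 24) (el φ s 25) := by
    rw [C.d_eq.1]; exact (Commute.refl _).mul_right haa.symm
  set a := el φ s 24
  set t := φ (slm 3)
  have hw : a * x * a⁻¹ * x⁻¹ = 1 := by
    have hwZ := hOc a (hO3 a had ha3) x (hO3 x hxd hx3)
    set w := a * x * a⁻¹ * x⁻¹ with hwdef
    obtain ⟨n, hn⟩ := Subgroup.mem_zpowers_iff.1 hwZ
    have hw3 : w ^ 3 = 1 := by rw [← hn, ← zpow_natCast, ← zpow_mul, mul_comm, zpow_mul, zpow_natCast, C.d_cube, one_zpow]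
    have hxw : Commute x w := hn ▸ hxd.zpow_right n
    have htw : Commute t w := hn ▸ ((show Commute (el φ s 25) t from C.commutes (by norm_num)).symm.zpow_right n)
    refine eq_one_of_eq_inv hw3 ?_
    have e1 : w = a * x⁻¹ * a⁻¹ * x := by
      calc w = t * w * t⁻¹ := by rw [htw.eq]; group
        _ = (t * a * t⁻¹) * (t * x * t⁻¹) * (t * a * t⁻¹)⁻¹ * (t * x * t⁻¹)⁻¹ := by rw [hwdef]; group
        _ = _ := by rw [C.t_a.1.eq, mul_inv_cancel_right, hxt, inv_inv]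
    calc w = a * x⁻¹ * a⁻¹ * x := e1
      _ = x⁻¹ * w⁻¹ * x := by rw [hwdef]; group
      _ = w⁻¹ := by rw [mul_assoc, ← hxw.inv_right.eq]; group
  have hxa : Commute x a := by
    show _ = _
    calc x * a = (a * x * a⁻¹ * x⁻¹) * x * a := by rw [hw, one_mul]
      _ = a * x := by group
  refine ⟨x, h, hx, h1, h2, h3, hxs, hxd, hxt, hx3, hx1, hxa, ?_⟩
  rw [show el φ s 1 = a⁻¹ * el φ s 25 by rw [C.d_eq.1]; simp only [a]; group]
  exact hxa.inv_right.mul_right hxd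

/-- The odd part of the centraliser of `a`. -/
theorem exists_Oa : ∃ O : Subgroup G, el φ s 24 ∈ O ∧ (∀ o ∈ O, Commute o (el φ s 24)) ∧ Odd (Nat.card O) ∧
    (∀ g, Commute g (el φ s 24) → ∀ o ∈ O, g * o * g⁻¹ ∈ O) ∧
    (∀ g, Commute g (el φ s 24) → g * φ (slm 3) * g⁻¹ * (φ (slm 3))⁻¹ ∈ O) ∧
    (∀ a ∈ O, ∀ b ∈ O, a * b * a⁻¹ * b⁻¹ ∈ Subgroup.zpowers (el φ s 24)) ∧
    ∀ o ∈ O, φ (slm 3) * o * (φ (slm 3))⁻¹ * o ∈ Subgroup.zpowers (el φ s 24) := by
  set a := el φ s 24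
  set t := φ (slm 3)
  set L := Subgroup.centralizer ({a} : Set G)
  have memL : ∀ {g}, g ∈ L ↔ Commute g a := fun {g} => by
    simp only [L, Subgroup.mem_centralizer_iff, Set.mem_singleton_iff, forall_eq]
    exact ⟨fun h => h.symm, fun h => h.symm⟩
  have htL : t ∈ L := memL.2 C.t_a.1
  have ho : orderOf (⟨t, htL⟩ : L) = 2 := by
    rw [← Subgroup.orderOf_coe]
    exact orderOf_eq_prime (by rw [pow_two]; exact C.t_sq) C.t_ne
  have hcent : ∀ {g}, Commute g a → Commute g t → ∃ i < 576, el φ s i = g ∧ ((isInv i = true → i = 3) ∧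
      (i ∈ [0, 24, 48] ∨ evenOrd i = true ∨ ∃ h < 576, cm h 24 = true ∧ evenOrd (T i (cj h i)) = true)) := by
    intro g ga gt
    obtain ⟨i, hi, rfl⟩ := C.eq_el gt
    refine ⟨i, hi, rfl, ?_⟩
    have h := allN_spec c_cent_a i hi
    rw [(C.el_comm_iff hi (by norm_num)).1 ga] at h
    simp only [Bool.not_true, Bool.false_or, Bool.and_eq_true, Bool.or_eq_true, Bool.not_eq_true',
      beq_iff, memF_iff] at h
    refine ⟨fun hI => h.1.resolve_left (by rw [hI]; simp), ?_⟩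
    rcases h.2 with (h' | h') | h'
    · exact Or.inl h'
    · exact Or.inr (Or.inl h')
    · obtain ⟨j, hj, hjj⟩ := anyN_spec h'
      exact Or.inr (Or.inr ⟨j, hj, (Bool.and_eq_true _ _ ▸ hjj).1, (Bool.and_eq_true _ _ ▸ hjj).2⟩)
  have hiso : IsIsolated (⟨t, htL⟩ : L) := by
    intro g hg
    have hg' : Commute t ((g : G) * t * (g : G)⁻¹) := congrArg Subtype.val hg.eq
    have hga : Commute ((g : G) * t * (g : G)⁻¹) a :=
      memL.1 (mul_mem (mul_mem g.2 htL) (inv_mem g.2))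
    obtain ⟨i, hi, he, h3, -⟩ := hcent hga hg'.symm
    have hI : isInv i = true := by
      rw [← C.isInv_iff hi, he, BrauerSuzuki.orderOf_conj_eq]
      exact orderOf_eq_prime (by rw [pow_two]; exact C.t_sq) C.t_ne
    refine Subtype.ext ?_
    show (g : G) * t * (g : G)⁻¹ = t
    rw [← he, h3 hI]
    exact C.el_three
  have hz := BrauerSuzuki.zStar L ⟨t, htL⟩ ho hiso
  haveI hOn : (pPrimeCore 2 L).Normal := Cfsg.Agent.FittingCores.pPrimeCore_normal 2
  have hodd : Odd (Nat.card (pPrimeCore 2 L)) := Nat.coprime_two_right.1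
    (Cfsg.Agent.FittingCores.pPrimeCore_coprime (G := L) 2)
  set O := (pPrimeCore 2 L).map L.subtype
  have hoddO : Odd (Nat.card O) := by
    rwa [Subgroup.card_map_of_injective L.subtype_injective]
  have hOL : ∀ o ∈ O, Commute o a := by
    rintro _ ⟨o, -, rfl⟩
    exact memL.1 o.2
  have hnorm : ∀ g, Commute g a → ∀ o ∈ O, g * o * g⁻¹ ∈ O := by
    rintro g hg _ ⟨o, ho, rfl⟩
    exact ⟨⟨g, memL.2 hg⟩ * o * ⟨g, memL.2 hg⟩⁻¹, hOn.conj_mem o ho _, rfl⟩
  have haO : a ∈ O := by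
    have haL : a ∈ L := memL.2 (Commute.refl a)
    refine ⟨⟨a, haL⟩, ?_, rfl⟩
    refine (le_sSup (a := Subgroup.zpowers (⟨a, haL⟩ : L)) ⟨?_, ?_⟩ : _ ≤ pPrimeCore 2 L)
      (Subgroup.mem_zpowers _)
    · refine Subgroup.Normal.mk fun z hz g => ?_
      obtain ⟨n, rfl⟩ := Subgroup.mem_zpowers_iff.1 hz
      have hga : Commute g (⟨a, haL⟩ : L) := Subtype.ext (memL.1 g.2).eq
      rw [(hga.zpow_right n).eq, mul_inv_cancel_right]
      exact Subgroup.zpow_mem_zpowers _ _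
    · rw [Nat.card_zpowers]
      refine Nat.Coprime.coprime_dvd_left (orderOf_dvd_of_pow_eq_one (n := 3) ?_) (by norm_num)
      exact Subtype.ext C.root_facts.2.2.2.2.2.1
  have hfix : ∀ o ∈ O, t * o * t⁻¹ = o → o ∈ Subgroup.zpowers a := by
    intro o ho e
    obtain ⟨i, hi, rfl, -, h⟩ := hcent (hOL o ho) (mul_inv_eq_iff_eq_mul.1 e).symm
    have key : ∀ {j}, j < 576 → el φ s j ∈ O → evenOrd j = false := by
      intro j hj hjO
      rw [Bool.eq_false_iff]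
      intro hev
      have sq : ∀ {k}, k < 576 → el φ s k ∈ O → el φ s (T k k) ∈ O ∧ isInv k = false := by
        intro k hk hkO
        refine ⟨C.el_mul hk hk ▸ mul_mem hkO hkO, ?_⟩
        rw [Bool.eq_false_iff]
        intro hI
        obtain ⟨h0, h2⟩ := isInv_spec.1 hI
        exact h0 ((C.el_eq_one hk).1 (eq_one_of_sq_of_odd hoddO (by rw [C.el_mul hk hk, h2, C.el_zero])
          (pow_card_of_mem hkO)))
      have a2 := sq hj hjO
      have a4 := sq (C.T_lt hj hj) a2.1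
      have m3 : el φ s (T (T j j) j) ∈ O := C.el_mul (C.T_lt hj hj) hj ▸ mul_mem a2.1 hjO
      have m6 : el φ s (T (T (T j j) (T j j)) (T j j)) ∈ O :=
        C.el_mul (C.T_lt (C.T_lt hj hj) (C.T_lt hj hj)) (C.T_lt hj hj) ▸ mul_mem a4.1 a2.1
      rw [evenOrd, a2.2, a4.2, (sq (C.T_lt (C.T_lt hj hj) hj) m3).2,
        (sq (C.T_lt (C.T_lt hj hj) (C.T_lt hj hj)) a4.1).2,
        (sq (C.T_lt (C.T_lt (C.T_lt hj hj) (C.T_lt hj hj)) (C.T_lt hj hj)) m6).2] at hev
      exact Bool.noConfusion hev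
    rcases h with h | h | ⟨j, hj, hjc, h⟩
    · simp only [List.mem_cons, List.not_mem_nil, or_false] at h
      rcases h with rfl | rfl | rfl
      · rw [C.el_zero]; exact one_mem _
      · exact Subgroup.mem_zpowers _
      · have h' := c_root
        simp only [Bool.and_eq_true, beq_iff] at h'
        rw [← h'.1.1.1.1.1.1.2, ← C.el_mul (by norm_num) (by norm_num)]
        exact mul_mem (Subgroup.mem_zpowers _) (Subgroup.mem_zpowers _)
    · rw [key hi ho] at h; exact Bool.noConfusion h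
    · have hja : Commute (el φ s j) a := (C.el_comm_iff hj (by norm_num)).2 hjc
      have hm : el φ s (T i (cj j i)) ∈ O := by
        rw [← C.el_mul hi (C.cj_lt hj hi), ← C.el_cj hj hi]
        exact mul_mem ho (hnorm _ hja _ ho)
      rw [key (C.T_lt hi (C.cj_lt hj hi)) hm] at h
      exact Bool.noConfusion h
  have hab := abelian_mod (σ := t) (Subgroup.zpowers_le.2 haO) hoddO C.t_sq (fun o ho => hnorm t C.t_a.1 o ho)
    (fun z hz => by
      obtain ⟨n, rfl⟩ := Subgroup.mem_zpowers_iff.1 hz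
      rw [(C.t_a.1.zpow_right n).eq, mul_inv_cancel_right])
    (fun z hz o ho => by
      obtain ⟨n, rfl⟩ := Subgroup.mem_zpowers_iff.1 hz
      exact ((hOL o ho).symm.zpow_left n).eq) hfix
  refine ⟨O, haO, hOL, hoddO, hnorm, fun g hg => ?_, hab.1, hab.2⟩
  exact ⟨_, hz ⟨g, memL.2 hg⟩, rfl⟩

/-- The element `x` and the relations of `PSp₄(3)`. -/
theorem exists_rel : ∃ x, Rel4 (-1 : (ZMod 3)ˣ) φ s x ∧ ¬ Commute x (φ (slm 3)) := by
  obtain ⟨x, h, hx, h1, h2, hdh, hxs, hxd, hxt, hx3, hx1, hxa, hxa'⟩ := C.exists_x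
  obtain ⟨O, haO, hOa, hodd, hnorm, hzs, habc, habt⟩ := C.exists_Oa
  obtain ⟨⟨Od, hOd3, -, hOdt, hOdall⟩, hd2⟩ := C.exists_Od
  obtain ⟨hsd, -, het, hed, -, ha3, ha'3, haa⟩ := C.root_facts
  obtain ⟨hta, hta'⟩ := C.t_a
  obtain ⟨hsa, hsa'⟩ := C.a_conj
  have hdeq := C.d_eq
  set a := el φ s 24 with hadef
  set a' := el φ s 1 with ha'def
  set t := φ (slm 3) with htdef
  set Z := Subgroup.zpowers a
  set n := el φ s 9 with hndef
  have hr := c_root
  simp only [Bool.and_eq_true, beq_iff] at hr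
  have hn9 : n = s * φ (slm 9) * s⁻¹ := by
    rw [hndef, show el φ s 9 = el φ s (enc 0 0 9) from congrArg _ hr.1.2.symm, C.el_enc (by norm_num) (by norm_num) (by norm_num), slm_special.1, map_one,
      one_mul, pow_zero, mul_one]
  have hna : Commute n a := ((C.el_comm_iff (by norm_num) (by norm_num)).2 hr.2).symm
  have ha'eq : a' = s * φ (slm 1) * s⁻¹ := by rw [ha'def, C.el_a', slm_special.2.2.1]
  have hσ : ∀ k l, k < 24 → l < 24 → s * φ (slm k) * s⁻¹ * (s * φ (slm l) * s⁻¹) = s * φ (slm (sS k l)) * s⁻¹ := by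
    intro k l hk hl
    rw [← (slm_mul hk hl).2, map_mul]; group
  have hnn : n * n = t := by
    rw [hn9, hσ 9 9 (by norm_num) (by norm_num)]
    have h' := c_sl
    simp only [Bool.and_eq_true, beq_iff] at h'
    rw [h'.1.1.2]
    exact C.sigma_z
  have hnat : n * a' * n = a'⁻¹ * n * a'⁻¹ := by
    have h' := c_sl
    simp only [Bool.and_eq_true, beq_iff] at h'
    have h22 : s * φ (slm 2) * s⁻¹ = a'⁻¹ := by
      rw [ha'eq, slm_special.2.2.1, slm_special.2.2.2.1, uu_neg_one, map_inv]; group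
    rw [← h22, hn9, ha'eq, hσ 9 1 (by norm_num) (by norm_num), hσ 2 9 (by norm_num) (by norm_num),
      hσ _ 9 (slm_mul (by norm_num) (by norm_num)).1 (by norm_num),
      hσ _ 2 (slm_mul (by norm_num) (by norm_num)).1 (by norm_num), h'.1.1.1]
  have hnt : Commute n t := hnn ▸ (Commute.refl n).mul_right (Commute.refl n)
  have hti : t⁻¹ = t := inv_eq_of_mul_eq_one_right C.t_sq
  have hxZ : x ∉ Z := fun hm => hx1 (eq_one_of_eq_inv hx3 (by
    obtain ⟨k, hk⟩ := Subgroup.mem_zpowers_iff.1 hm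
    rw [← hxt, ← hk, (hta.zpow_right k).eq, mul_inv_cancel_right]))
  have hxO : x ∈ O := by
    have h1 := hzs x hxa
    have e : x * t * x⁻¹ * t⁻¹ = x * x := by
      calc x * t * x⁻¹ * t⁻¹ = x * (t * x * t⁻¹)⁻¹ := by group
        _ = x * x := by rw [hxt, inv_inv]
    rw [e] at h1
    have := mul_mem h1 h1
    rwa [show x * x * (x * x) = x ^ 3 * x by simp only [pow_succ, pow_zero, one_mul, mul_assoc], hx3, one_mul] at this
  set y := n * x * n⁻¹ with hy
  have hyO : y ∈ O := hnorm n hna x hxO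
  have hyt : t * y * t⁻¹ = y⁻¹ := by
    rw [hy]
    calc t * (n * x * n⁻¹) * t⁻¹ = (t * n) * x * (t * n)⁻¹ := by group
      _ = (n * t) * x * (n * t)⁻¹ := by rw [hnt.eq]
      _ = n * (t * x * t⁻¹) * n⁻¹ := by group
      _ = _ := by rw [hxt]; group
  have hny : n * y * n⁻¹ = x⁻¹ := by
    rw [hy, show n * (n * x * n⁻¹) * n⁻¹ = (n * n) * x * (n * n)⁻¹ by group, hnn, hxt]
  have hy3 : y ^ 3 = 1 := by rw [hy, conj_pow, hx3]; group
  have ha'33 : a' * a' * a' = 1 := by rw [← ha'3, pow_succ, pow_two]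
  have ha33 : a * a * a = 1 := by rw [← ha3, pow_succ, pow_two]
  -- the step in the abelian quotient
  have hZn : ∀ z ∈ Z, ∀ g ∈ O, g * z * g⁻¹ = z := fun z hz g hg => by
    obtain ⟨k, rfl⟩ := Subgroup.mem_zpowers_iff.1 hz
    rw [((hOa g hg).zpow_right k).eq, mul_inv_cancel_right]
  haveI hN : (Z.subgroupOf O).Normal := ⟨fun z hz g => by
    show (g : G) * z * (g : G)⁻¹ ∈ Z
    have hz' : (z : G) ∈ Z := hz
    rw [hZn _ hz' g g.2]; exact hz'⟩
  letI : CommGroup (O ⧸ Z.subgroupOf O) :=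
    { (inferInstance : Group (O ⧸ Z.subgroupOf O)) with
      mul_comm := fun p q => by
        obtain ⟨u, rfl⟩ := QuotientGroup.mk_surjective p
        obtain ⟨v, rfl⟩ := QuotientGroup.mk_surjective q
        rw [← QuotientGroup.mk_mul, ← QuotientGroup.mk_mul, QuotientGroup.eq]
        show ((u : G) * v)⁻¹ * ((v : G) * u) ∈ Z
        rw [show ((u : G) * v)⁻¹ * ((v : G) * u) = (v : G)⁻¹ * (u : G)⁻¹ * (v⁻¹ : G)⁻¹ * (u⁻¹ : G)⁻¹ by group]
        exact habc _ (inv_mem v.2) _ (inv_mem u.2) }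
  let cO : ∀ g : G, Commute g a → O →* O := fun g hg =>
    { toFun := fun o => ⟨g * o * g⁻¹, hnorm g hg o o.2⟩
      map_one' := Subtype.ext (by simp)
      map_mul' := fun u v => Subtype.ext (by simp [mul_assoc]) }
  have hle : ∀ (g : G) (hg : Commute g a), Z.subgroupOf O ≤ (Z.subgroupOf O).comap (cO g hg) := by
    intro g hg z hz
    show g * (z : G) * g⁻¹ ∈ Z
    have hz' : (z : G) ∈ Z := hz
    obtain ⟨k, hk⟩ := Subgroup.mem_zpowers_iff.1 hz'
    rw [← hk, (hg.zpow_right k).eq, mul_inv_cancel_right]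
    exact Subgroup.zpow_mem_zpowers _ _
  let cQ : ∀ g : G, Commute g a → (O ⧸ Z.subgroupOf O) →* (O ⧸ Z.subgroupOf O) := fun g hg =>
    QuotientGroup.map _ _ (cO g hg) (hle g hg)
  let π : O → O ⧸ Z.subgroupOf O := QuotientGroup.mk
  have comp : ∀ (g : G) (hg : Commute g a) (o : G) (ho : o ∈ O) (o' : G) (ho' : o' ∈ O),
      g * o * g⁻¹ = o' → cQ g hg (π ⟨o, ho⟩) = π ⟨o', ho'⟩ := fun g hg o ho o' ho' e =>
    congrArg π (Subtype.ext e)
  have hstep := natural_step (cQ a' haa) (cQ n hna) (x := π ⟨x, hxO⟩) (y := π ⟨y, hyO⟩)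
    (congrArg π (Subtype.ext hx3 : (⟨x, hxO⟩ : O) ^ 3 = 1))
    (fun e => hxZ ((QuotientGroup.eq_one_iff _).1 e : (⟨x, hxO⟩ : O) ∈ Z.subgroupOf O))
    (comp a' haa x hxO x hxO (by rw [hxa'.symm.eq, mul_inv_cancel_right]))
    (comp n hna x hxO y hyO rfl)
    (comp n hna y hyO x⁻¹ (inv_mem hxO) hny) ?_ ?_ ?_ ?_
  rotate_left
  · refine congrArg π (Subtype.ext ?_)
    show a' * (a' * (a' * y * a'⁻¹) * a'⁻¹) * a'⁻¹ = y
    calc a' * (a' * (a' * y * a'⁻¹) * a'⁻¹) * a'⁻¹ = (a' * a' * a') * y * (a' * a' * a')⁻¹ := by group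
      _ = y := by rw [ha'33]; group
  · refine congrArg π (Subtype.ext ?_)
    show n * (a' * y * a'⁻¹) * n⁻¹ = a' * (a' * y * a'⁻¹) * a'⁻¹
    calc n * (a' * y * a'⁻¹) * n⁻¹ = (n * a' * n) * x * (n * a' * n)⁻¹ := by rw [hy]; group
      _ = a'⁻¹ * n * (a'⁻¹ * x * a'⁻¹⁻¹) * n⁻¹ * a'⁻¹⁻¹ := by rw [hnat]; group
      _ = a'⁻¹ * y * a'⁻¹⁻¹ := by rw [hxa'.inv_right.symm.eq, mul_inv_cancel_right, hy]; group
      _ = (a' * a' * a' * a'⁻¹) * y * (a' * a' * a' * a'⁻¹)⁻¹ := by rw [ha'33]; group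
      _ = _ := by group
  · refine congrArg π (Subtype.ext ?_)
    show n * (a' * (a' * y * a'⁻¹) * a'⁻¹) * n⁻¹ = (a' * y * a'⁻¹)⁻¹
    have e : n * (a' * y * a'⁻¹) * n⁻¹ = a' * (a' * y * a'⁻¹) * a'⁻¹ := by
      calc n * (a' * y * a'⁻¹) * n⁻¹ = (n * a' * n) * x * (n * a' * n)⁻¹ := by rw [hy]; group
        _ = a'⁻¹ * n * (a'⁻¹ * x * a'⁻¹⁻¹) * n⁻¹ * a'⁻¹⁻¹ := by rw [hnat]; group
        _ = a'⁻¹ * y * a'⁻¹⁻¹ := by rw [hxa'.inv_right.symm.eq, mul_inv_cancel_right, hy]; group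
        _ = (a' * a' * a' * a'⁻¹) * y * (a' * a' * a' * a'⁻¹)⁻¹ := by rw [ha'33]; group
        _ = _ := by group
    rw [← e]
    calc n * (n * (a' * y * a'⁻¹) * n⁻¹) * n⁻¹ = (n * n) * a' * y * a'⁻¹ * (n * n)⁻¹ := by group
      _ = (t * a') * y * (t * a')⁻¹ := by rw [hnn]; group
      _ = a' * (t * y * t⁻¹) * a'⁻¹ := by rw [hta'.eq]; group
      _ = _ := by rw [hyt]; group
  · intro m hm
    obtain ⟨⟨o, ho⟩, rfl⟩ := QuotientGroup.mk_surjective m
    obtain ⟨z, hz, hzdef⟩ : ∃ z ∈ Z, t * o * t⁻¹ * o = z := ⟨_, habt o ho, rfl⟩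
    have hzc : ∀ {g}, Commute g a → Commute g z := fun {g} hg => by
      obtain ⟨k, rfl⟩ := Subgroup.mem_zpowers_iff.1 hz
      exact hg.zpow_right k
    have hz3 : z ^ 3 = 1 := by
      obtain ⟨k, rfl⟩ := Subgroup.mem_zpowers_iff.1 hz
      rw [← zpow_natCast, ← zpow_mul, mul_comm, zpow_mul, zpow_natCast, ha3, one_zpow]
    set o' := o * z with ho'
    have hoz : Commute o z := hzc (hOa o ho)
    have hinv : t * o' * t⁻¹ = o'⁻¹ := by
      refine eq_inv_of_mul_eq_one_left ?_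
      calc t * (o * z) * t⁻¹ * (o * z) = (t * o * t⁻¹) * (t * z * t⁻¹) * o * z := by group
        _ = (t * o * t⁻¹) * (z * o) * z := by rw [(hzc hta).eq]; group
        _ = (t * o * t⁻¹ * o) * z * z := by rw [← hoz.eq]; group
        _ = z ^ 3 := by rw [hzdef, pow_succ, pow_two]
        _ = 1 := hz3
    have ho'O : o' ∈ O := mul_mem ho (Subgroup.zpowers_le.2 haO hz)
    obtain ⟨w, hw, hwdef⟩ : ∃ w ∈ Z, (a' * o' * a'⁻¹)⁻¹ * o' = w := by
      refine ⟨_, ?_, rfl⟩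
      have h0 := (QuotientGroup.eq (s := Z.subgroupOf O) (a := (⟨a' * o * a'⁻¹, hnorm a' haa o ho⟩ : O))
        (b := ⟨o, ho⟩)).1 hm
      have h' : (a' * o * a'⁻¹)⁻¹ * o ∈ Z := h0
      have e : (a' * o' * a'⁻¹)⁻¹ * o' = (a' * z * a'⁻¹)⁻¹ * ((a' * o * a'⁻¹)⁻¹ * o) * z := by rw [ho']; group
      rw [e, (hzc haa).eq, mul_inv_cancel_right]
      exact mul_mem (mul_mem (inv_mem hz) h') hz
    have hwc : ∀ {g}, Commute g a → Commute g w := fun {g} hg => by
      obtain ⟨k, rfl⟩ := Subgroup.mem_zpowers_iff.1 hw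
      exact hg.zpow_right k
    have hw1 : w = 1 := by
      refine eq_one_of_sq_of_odd hodd ?_ (pow_card_of_mem (Subgroup.zpowers_le.2 haO hw))
      have e1 : t * w * t⁻¹ = w := by rw [(hwc hta).eq, mul_inv_cancel_right]
      have e2 : t * w * t⁻¹ = (a' * o' * a'⁻¹) * o'⁻¹ := by
        calc t * w * t⁻¹ = ((t * a') * o' * (t * a')⁻¹)⁻¹ * (t * o' * t⁻¹) := by rw [← hwdef]; group
          _ = (a' * (t * o' * t⁻¹) * a'⁻¹)⁻¹ * (t * o' * t⁻¹) := by rw [hta'.eq]; group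
          _ = _ := by rw [hinv]; group
      have e3 : a' * o' * a'⁻¹ = o' * w⁻¹ := by rw [← hwdef]; group
      rw [e1, e3] at e2
      calc w * w = (o' * w⁻¹ * o'⁻¹) * w := by rw [← e2]
        _ = (w⁻¹ * o' * o'⁻¹) * w := by rw [((hwc (hOa o' ho'O)).inv_right).eq]
        _ = 1 := by group
    have hoa' : Commute o' a' := by
      refine (mul_inv_eq_iff_eq_mul.1 ?_).symm
      exact (inv_mul_eq_one.1 (hwdef.trans hw1))
    have hod : Commute o' (el φ s 25) := by rw [hdeq.1]; exact (hOa o' ho'O).mul_right hoa'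
    have hoOd := hOdall o' hod ⟨_, hodd, pow_card_of_mem ho'O⟩
    have hos : Commute o' s := by
      obtain ⟨k, hk⟩ := Subgroup.mem_zpowers_iff.1 (hOdt o' hoOd)
      set D := el φ s 25 ^ k with hD
      have hoD : Commute o' D := hod.zpow_right k
      have hsD : Commute s D := hsd.symm.zpow_right k
      have htD : Commute t D := (show Commute (el φ s 25) t from C.commutes (by norm_num)).symm.zpow_right k
      have h3 : ep φ s 3 = t * s := C.ep_three
      rw [h3] at hk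
      have e1 : s * o' * s⁻¹ = o' * D := by
        have e : s * o' * s⁻¹ = t⁻¹ * (D * o'⁻¹) * t := by rw [hk]; group
        rw [e, ← hoD.inv_left.eq]
        calc t⁻¹ * (o'⁻¹ * D) * t = (t⁻¹ * o' * t)⁻¹ * (t⁻¹ * (D * t)) := by group
          _ = o' * D := by
            rw [← htD.eq]
            have : t⁻¹ * o' * t = o'⁻¹ := by rw [hti]; nth_rw 2 [← hti]; exact hinv
            rw [this, inv_inv]; group
      have e2 : D * D = 1 := by
        have : s * (s * o' * s⁻¹) * s⁻¹ = o' := by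
          calc s * (s * o' * s⁻¹) * s⁻¹ = (s * s) * o' * (s * s)⁻¹ := by group
            _ = o' := by rw [C.sq]; group
        rw [e1, show s * (o' * D) * s⁻¹ = s * o' * s⁻¹ * (s * D * s⁻¹) by group, e1, hsD.eq,
          mul_inv_cancel_right, mul_assoc] at this
        exact mul_eq_left.1 this
      have e3 : D = 1 := eq_one_of_sq_of_odd ⟨1, rfl⟩ e2 (by
        rw [show (2 * 1 + 1 : ℕ) = 3 from rfl, hD, ← zpow_natCast, ← zpow_mul, mul_comm, zpow_mul, zpow_natCast,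
          C.d_cube, one_zpow])
      rw [e3, mul_one] at e1
      exact (mul_inv_eq_iff_eq_mul.1 e1).symm
    have hq1 : Commute (h⁻¹ * o' * h) t := by
      have := commute_conj hos h⁻¹
      rwa [inv_inv, conj_back h1] at this
    have hq2 : Commute (h⁻¹ * o' * h) (el φ s 25) := by
      have := commute_conj hod h⁻¹
      rw [inv_inv] at this
      rcases hdh with e | e
      · rwa [conj_back e] at this
      · have e' : h⁻¹ * el φ s 25 * h = (el φ s 25)⁻¹ := by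
          calc h⁻¹ * el φ s 25 * h = (h⁻¹ * (el φ s 25)⁻¹ * h)⁻¹ := by group
            _ = _ := by rw [conj_back e]
        rw [e'] at this
        exact inv_inv (el φ s 25) ▸ this.inv_right
    obtain ⟨i, hi, hie⟩ := C.eq_el hq1
    have hc := allN_spec c_cent_d i hi
    rw [(C.el_comm_iff hi (by norm_num)).1 (hie ▸ hq2)] at hc
    simp only [Bool.not_true, Bool.false_or, Bool.and_eq_true, Bool.or_eq_true, beq_iff, memF_iff,
      Bool.not_eq_true', Bool.eq_false_iff, ne_eq] at hc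
    have hi6 : el φ s i ^ 6 = 1 := by
      rw [pow_six,
        C.el_mul hi hi, C.el_mul (C.T_lt hi hi) (C.T_lt hi hi),
        C.el_mul (C.T_lt (C.T_lt hi hi) (C.T_lt hi hi)) (C.T_lt hi hi), hc.1.1, C.el_zero]
    have hi3 : el φ s i ^ 3 = 1 := eq_one_of_sq_of_odd hodd (by rw [← pow_add]; exact hi6) (by
      rw [← pow_mul, mul_comm, pow_mul, hie, show h⁻¹ * o' * h = h⁻¹ * o' * h⁻¹⁻¹ by rw [inv_inv], conj_pow,
        pow_card_of_mem ho'O]
      group)
    have hi9 : i ∈ [0, 1, 2, 24, 25, 26, 48, 49, 50] := hc.1.2.resolve_left fun hne => hne (by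
      rw [← C.el_eq_one (C.T_lt (C.T_lt hi hi) hi), ← C.el_mul (C.T_lt hi hi) hi, ← C.el_mul hi hi, ← pow_two,
        ← pow_succ]
      exact hi3)
    have hw' := allF_iff.1 c_W i hi9
    simp only [Bool.and_eq_true, Bool.or_eq_true, Bool.not_eq_true', Bool.eq_false_iff, ne_eq, beq_iff,
      memF_iff] at hw'
    have hinv' : T (cj 288 i) i = 0 := by
      rw [← C.el_eq_one (C.T_lt (C.cj_lt (by norm_num) hi) hi), ← C.el_mul (C.cj_lt (by norm_num) hi) hi,
        ← C.el_cj (by norm_num) hi, C.el_s, hie, ← conj_back h2]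
      calc h⁻¹ * t * h * (h⁻¹ * o' * h) * (h⁻¹ * t * h)⁻¹ * (h⁻¹ * o' * h)
          = h⁻¹ * (t * o' * t⁻¹ * o') * h := by group
        _ = 1 := by rw [hinv]; group
    have hox : o' ∈ Subgroup.zpowers x := by
      have e : o' = h * el φ s i * h⁻¹ := by rw [hie]; group
      have hi' := hw'.1.resolve_left (not_not_intro hinv')
      simp only [List.mem_cons, List.not_mem_nil, or_false] at hi'
      rcases hi' with rfl | rfl | rfl
      · rw [e, C.el_zero, mul_one, mul_inv_cancel]; exact one_mem _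
      · rw [e, ← hx]; exact Subgroup.mem_zpowers _
      · rw [e, show el φ s 49 = (el φ s 26)⁻¹ by rw [C.el_inv (by norm_num)]; exact congrArg _ (by decide +kernel),
          ← conj_inv, ← hx]
        exact inv_mem (Subgroup.mem_zpowers _)
    obtain ⟨k, hk⟩ := Subgroup.mem_zpowers_iff.1 hox
    refine Subgroup.mem_zpowers_iff.2 ⟨k, ?_⟩
    show (π ⟨x, hxO⟩) ^ k = π ⟨o, ho⟩
    rw [show (π ⟨x, hxO⟩) ^ k = π (⟨x, hxO⟩ ^ k) from (map_zpow (QuotientGroup.mk' (Z.subgroupOf O)) _ k).symm]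
    refine QuotientGroup.eq.2 ?_
    show ((⟨x, hxO⟩ ^ k : O) : G)⁻¹ * o ∈ Z
    rw [Subgroup.coe_zpow, hk, ho', show (o * z)⁻¹ * o = z⁻¹ by group]
    exact inv_mem hz
  obtain ⟨c, hc, hstep'⟩ : ∃ c ∈ Z, a' * y * a'⁻¹ = y * x * c := by
    rw [show cQ a' haa (π ⟨y, hyO⟩) = π ⟨a' * y * a'⁻¹, hnorm a' haa y hyO⟩ from rfl] at hstep
    have h0 := (QuotientGroup.eq (s := Z.subgroupOf O) (a := (⟨a' * y * a'⁻¹, hnorm a' haa y hyO⟩ : O))
      (b := (⟨y, hyO⟩ : O) * (⟨x, hxO⟩ : O))).1 hstep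
    have h' : (a' * y * a'⁻¹)⁻¹ * (y * x) ∈ Z := h0
    exact ⟨_, inv_mem h', by group⟩
  have hcO : ∀ {g}, Commute g a → Commute g c := fun {g} hg => by
    obtain ⟨k, rfl⟩ := Subgroup.mem_zpowers_iff.1 hc
    exact hg.zpow_right k
  have hc3 : c ^ 3 = 1 := by
    obtain ⟨k, rfl⟩ := Subgroup.mem_zpowers_iff.1 hc
    rw [← zpow_natCast, ← zpow_mul, mul_comm, zpow_mul, zpow_natCast, ha3, one_zpow]
  have hya : Commute y a := hOa y hyO
  have hyx : y * x = x * y * c := by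
    have e1 : t * (a' * y * a'⁻¹) * t⁻¹ = a' * y⁻¹ * a'⁻¹ := by
      calc t * (a' * y * a'⁻¹) * t⁻¹ = (t * a') * y * (t * a')⁻¹ := by group
        _ = a' * (t * y * t⁻¹) * a'⁻¹ := by rw [hta'.eq]; group
        _ = _ := by rw [hyt]
    have e2 : t * (a' * y * a'⁻¹) * t⁻¹ = y⁻¹ * x⁻¹ * c := by
      rw [hstep']
      calc t * (y * x * c) * t⁻¹ = (t * y * t⁻¹) * (t * x * t⁻¹) * (t * c * t⁻¹) := by group
        _ = _ := by rw [hyt, hxt, (hcO hta).eq, mul_inv_cancel_right]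
    have e3 : y⁻¹ * x⁻¹ * c = c⁻¹ * x⁻¹ * y⁻¹ := by
      rw [← e2, e1, show a' * y⁻¹ * a'⁻¹ = (a' * y * a'⁻¹)⁻¹ by group, hstep']; group
    have e4 : c⁻¹ * (x * y) = (y * x) * c := by
      calc c⁻¹ * (x * y) = (y⁻¹ * x⁻¹ * c)⁻¹ := by group
        _ = _ := by rw [e3]; group
    calc y * x = (y * x) * c * c⁻¹ := by group
      _ = c⁻¹ * (x * y) * c⁻¹ := by rw [e4]
      _ = x * y * c⁻¹ * c⁻¹ := by rw [((hcO (hxa.mul_left hya)).inv_right).eq]
      _ = x * y * (c ^ 3)⁻¹ * c := by group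
      _ = _ := by rw [hc3]; group
  have hyd : y⁻¹ * el φ s 25 * y = a * x * c * a' := by
    rw [hdeq.1]
    calc y⁻¹ * (a * a') * y = y⁻¹ * a * y * (y⁻¹ * (a' * y * a'⁻¹) * a') := by group
      _ = a * (y⁻¹ * (a' * y * a'⁻¹) * a') := by rw [mul_assoc y⁻¹, ← hya.eq]; group
      _ = _ := by rw [hstep']; group
  rcases zpowers_three ha3 hc with rfl | rfl | rfl
  · -- `d` would be conjugate into `⟨a⟩` or `⟨a'⟩`
    exfalso
    have e0 : y⁻¹ * el φ s 25 * y = el φ s 25 * x := by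
      rw [hyd, mul_one, mul_assoc, hxa'.eq, ← mul_assoc, ← hdeq.1]
    obtain ⟨k, hk⟩ : ∃ k, k * el φ s 25 * k⁻¹ = a * a ∨ k * el φ s 25 * k⁻¹ = a' := by
      refine ⟨h⁻¹ * y⁻¹, ?_⟩
      have e1 : h⁻¹ * y⁻¹ * el φ s 25 * (h⁻¹ * y⁻¹)⁻¹ = (h⁻¹ * el φ s 25 * h) * el φ s 26 := by
        rw [show h⁻¹ * y⁻¹ * el φ s 25 * (h⁻¹ * y⁻¹)⁻¹ = h⁻¹ * (y⁻¹ * el φ s 25 * y) * h by group, e0, hx]
        group
      rw [e1]
      rcases hdh with e | e
      · left
        rw [conj_back e, C.el_mul (by norm_num) (by norm_num), hr.1.1.1.1.1.1.1.2,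
          C.el_mul (by norm_num) (by norm_num), hr.1.1.1.1.1.1.2]
      · right
        have e' : h⁻¹ * el φ s 25 * h = el φ s 50 := by
          calc h⁻¹ * el φ s 25 * h = (h⁻¹ * (el φ s 25)⁻¹ * h)⁻¹ := by group
            _ = (el φ s 25)⁻¹ := by rw [conj_back e]
            _ = _ := by rw [C.el_inv (by norm_num)]; exact congrArg _ (by decide +kernel)
        rw [e', C.el_mul (by norm_num) (by norm_num), hr.1.1.1.1.1.2]
    obtain ⟨k, hk⟩ : ∃ k, Commute (el φ s 6) (k * el φ s 25 * k⁻¹) := by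
      have h6 : Commute (el φ s 6) a := (C.el_comm_iff (by norm_num) (by norm_num)).2 hr.1.1.1.1.2
      rcases hk with e | e
      · exact ⟨k, e ▸ h6.mul_right h6⟩
      · refine ⟨s * k, ?_⟩
        rw [show s * k * el φ s 25 * (s * k)⁻¹ = s * (k * el φ s 25 * k⁻¹) * s⁻¹ by group, e, hsa']
        exact h6
    have h4 : el φ s 6 * el φ s 6 * (el φ s 6 * el φ s 6) = 1 := by
      rw [C.el_mul (by norm_num) (by norm_num), C.el_mul (C.T_lt (by norm_num) (by norm_num))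
        (C.T_lt (by norm_num) (by norm_num)), hr.1.1.2, C.el_zero]
    have hy6 := (hd2 (k⁻¹ * el φ s 6 * k) ?_ ⟨2, ?_⟩).1
    · have hne := hr.1.1.1.2
      simp only [Bool.not_eq_true', Bool.eq_false_iff, ne_eq, beq_iff] at hne
      refine hne ?_
      rw [← C.el_eq_one (C.T_lt (by norm_num) (by norm_num)), ← C.el_mul (by norm_num) (by norm_num)]
      calc el φ s 6 * el φ s 6 = k * (k⁻¹ * el φ s 6 * k * (k⁻¹ * el φ s 6 * k)) * k⁻¹ := by group
        _ = 1 := by rw [hy6]; group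
    · have := commute_conj hk k⁻¹
      rwa [inv_inv, conj_back rfl] at this
    · calc (k⁻¹ * el φ s 6 * k) ^ 2 ^ 2 = k⁻¹ * (el φ s 6 * el φ s 6 * (el φ s 6 * el φ s 6)) * k := by
            rw [show (2 : ℕ) ^ 2 = 2 * 2 from rfl, pow_mul, pow_two, pow_two]; group
        _ = 1 := by rw [h4]; group
  · -- the relations
    have hA1 : a'⁻¹ * y⁻¹ * a' = x * a * y⁻¹ := by
      have e : a'⁻¹ * y * a' * (x * a) = y := by
        calc a'⁻¹ * y * a' * (x * a) = a'⁻¹ * y * (a' * (x * a)) := by group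
          _ = a'⁻¹ * (y * x * a) * a' := by rw [(hxa'.symm.mul_right haa).eq]; group
          _ = y := by rw [← hstep']; group
      calc a'⁻¹ * y⁻¹ * a' = (a'⁻¹ * y * a')⁻¹ := by group
        _ = (y * (x * a)⁻¹)⁻¹ := by rw [eq_mul_inv_of_mul_eq e]
        _ = _ := by group
    have hA2 : a' * y⁻¹ * a'⁻¹ = a⁻¹ * x⁻¹ * y⁻¹ := by
      calc a' * y⁻¹ * a'⁻¹ = (a' * y * a'⁻¹)⁻¹ := by group
        _ = _ := by rw [hstep']; group
    have hnx : n⁻¹ * x * n = y⁻¹ := by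
      calc n⁻¹ * x * n = (n⁻¹ * x⁻¹ * n)⁻¹ := by group
        _ = y⁻¹ := by rw [conj_back hny]
    have hnyi : n * y⁻¹ * n⁻¹ = x := by
      calc n * y⁻¹ * n⁻¹ = (n * y * n⁻¹)⁻¹ := by group
        _ = x := by rw [hny, inv_inv]
    have hna' : n * a * n⁻¹ = a := by rw [hna.eq, mul_inv_cancel_right]
    have B1 : n * a'⁻¹ * n⁻¹ * x * (n * a'⁻¹ * n⁻¹)⁻¹ = x * y * a⁻¹ := by
      calc n * a'⁻¹ * n⁻¹ * x * (n * a'⁻¹ * n⁻¹)⁻¹ = n * (a'⁻¹ * (n⁻¹ * x * n) * a') * n⁻¹ := by group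
        _ = (n * x * n⁻¹) * (n * a * n⁻¹) * (n * y⁻¹ * n⁻¹) := by rw [hnx, hA1]; group
        _ = y * (a * x) := by rw [hna', hnyi, ← hy]; group
        _ = (y * x) * a := by rw [← hxa.eq]; group
        _ = x * y * a * a := by rw [hyx]
        _ = x * y * (a * a * a * a⁻¹) := by group
        _ = _ := by rw [ha33, one_mul]
    have B2 : n * a' * n⁻¹ * x * (n * a' * n⁻¹)⁻¹ = x * y⁻¹ * a := by
      calc n * a' * n⁻¹ * x * (n * a' * n⁻¹)⁻¹ = n * (a' * (n⁻¹ * x * n) * a'⁻¹) * n⁻¹ := by group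
        _ = (n * a * n⁻¹)⁻¹ * (n * x * n⁻¹)⁻¹ * (n * y⁻¹ * n⁻¹) := by rw [hnx, hA2]; group
        _ = a⁻¹ * (y⁻¹ * x) := by rw [hna', hnyi, ← hy]; group
        _ = (y⁻¹ * x) * a⁻¹ := ((hya.inv_left.mul_left hxa).inv_right).eq.symm
        _ = y⁻¹ * (x * y * a) * a⁻¹ * y⁻¹ * a⁻¹ := by group
        _ = y⁻¹ * (y * x) * (a⁻¹ * y⁻¹) * a⁻¹ := by rw [hyx]; group
        _ = y⁻¹ * (y * x) * (y⁻¹ * a⁻¹) * a⁻¹ := by rw [hya.inv_inv.symm.eq]
        _ = x * y⁻¹ * (a * (a * a * a)⁻¹) := by group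
        _ = _ := by rw [ha33]; group
    refine ⟨x, ?_, fun hc => hx1 (eq_one_of_eq_inv hx3 ?_)⟩
    swap
    · rw [← hxt, ← hc.eq, mul_inv_cancel_right]
    have hau : φ (uu 1) = a := by rw [hadef, C.el_a]
    have hsx : s * x * s⁻¹ = x := by rw [← hxs.eq, mul_inv_cancel_right]
    have hsn : s * n * s⁻¹ = φ ss := by
      rw [hn9, slm_special.2.2.2.2.1]
      calc s * (s * φ ss * s⁻¹) * s⁻¹ = (s * s) * φ ss * (s * s)⁻¹ := by group
        _ = _ := by rw [C.sq]; group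
    refine ⟨C.comm, C.sq, hxs.symm, ?_, ?_, ?_⟩
    · rw [← slm_special.2.1, C.sigma_z]
    · rintro c (rfl | hc)
      · rw [hau]; exact hxa.symm
      · rw [Set.mem_singleton_iff] at hc
        rw [hc, Units.val_neg, Units.val_one, uu_neg_one, map_inv, hau]
        exact hxa.symm.inv_left
    · rintro c (rfl | hc) hc0
      · have e1 : (ll 1 : SL3) = ss * (uu 1)⁻¹ * ss⁻¹ := by decide +kernel
        have e2 : ∀ hc : (1 : ZMod 3) ≠ 0, (ss * dd (Units.mk0 1 hc) : SL3) = ss := by decide +kernel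
        rw [e1, e2, uu_neg_one, map_mul, map_mul, map_inv, map_inv, hau, ← hsn, ← hsa']
        calc s * n * s⁻¹ * (s * a' * s⁻¹)⁻¹ * (s * n * s⁻¹)⁻¹ * x * (s * n * s⁻¹ * (s * a' * s⁻¹)⁻¹ *
              (s * n * s⁻¹)⁻¹)⁻¹
            = s * (n * a'⁻¹ * n⁻¹ * (s⁻¹ * x * s) * (n * a'⁻¹ * n⁻¹)⁻¹) * s⁻¹ := by group
          _ = s * (x * y * a⁻¹) * s⁻¹ := by rw [conj_back hsx, B1]
          _ = (s * x * s⁻¹) * (s * n * s⁻¹ * (s * x * s⁻¹) * (s * n * s⁻¹)⁻¹) * (s * a * s⁻¹)⁻¹ := by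
              rw [hy]; group
          _ = _ := by rw [hsx, hsa']; group
      · rw [Set.mem_singleton_iff] at hc
        subst hc
        have e1 : (ll ((-1 : (ZMod 3)ˣ) : ZMod 3) : SL3) = ss * uu 1 * ss⁻¹ := by decide +kernel
        have e2 : ∀ hc : ((-1 : (ZMod 3)ˣ) : ZMod 3) ≠ 0,
            (ss * dd (Units.mk0 _ hc) : SL3) = ss * slm 3 := by decide +kernel
        rw [e1, e2, Units.val_neg, Units.val_one, neg_neg, map_mul, map_mul, map_mul, map_inv, hau, ← hsn,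
          ← hsa']
        calc s * n * s⁻¹ * (s * a' * s⁻¹) * (s * n * s⁻¹)⁻¹ * x * (s * n * s⁻¹ * (s * a' * s⁻¹) *
              (s * n * s⁻¹)⁻¹)⁻¹
            = s * (n * a' * n⁻¹ * (s⁻¹ * x * s) * (n * a' * n⁻¹)⁻¹) * s⁻¹ := by group
          _ = s * (x * y⁻¹ * a) * s⁻¹ := by rw [conj_back hsx, B2]
          _ = (s * x * s⁻¹) * (s * n * s⁻¹ * (s * x * s⁻¹)⁻¹ * (s * n * s⁻¹)⁻¹) * (s * a * s⁻¹) := by
              rw [hy]; group
          _ = _ := by rw [hsx, ← hxt, hsa', ← htdef]; group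
  · -- `d` would be conjugate to `e`
    exfalso
    have e0 : y⁻¹ * el φ s 25 * y = x * a' := by
      rw [hyd, ← hxa.eq]; group
    have e1 : s * (x * a') * s⁻¹ = x * a := by
      calc s * (x * a') * s⁻¹ = (s * x * s⁻¹) * (s * a' * s⁻¹) := by group
        _ = _ := by rw [← hxs.eq, mul_inv_cancel_right, hsa']
    have e2 : y⁻¹ * x * y = x * a := by
      calc y⁻¹ * x * y = y⁻¹ * (x * y * a⁻¹) * a := by group
        _ = _ := by rw [← hyx]; group
    set k := h⁻¹ * y * s * y⁻¹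
    have hk : k * el φ s 25 * k⁻¹ = el φ s 26 := by
      calc k * el φ s 25 * k⁻¹ = h⁻¹ * (y * (s * (y⁻¹ * el φ s 25 * y) * s⁻¹) * y⁻¹) * h := by
            simp only [k]; group
        _ = el φ s 26 := by rw [e0, e1, ← e2, hx]; group
    have hw : Commute (k⁻¹ * t * k) (el φ s 25) := by
      have := commute_conj het.symm k⁻¹
      rwa [inv_inv, conj_back hk] at this
    have hw2 : k⁻¹ * t * k * (k⁻¹ * t * k) = 1 := by
      calc k⁻¹ * t * k * (k⁻¹ * t * k) = k⁻¹ * (t * t) * k := by group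
        _ = 1 := by rw [C.t_sq]; group
    obtain ⟨-, hl⟩ := hd2 _ hw ⟨1, by rw [pow_one, pow_two]; exact hw2⟩
    obtain ⟨l, hld, hl⟩ := hl ⟨k⁻¹, by rw [inv_inv]⟩ fun e => C.t_ne (by
      rw [show φ (slm 3) = k * (k⁻¹ * φ (slm 3) * k) * k⁻¹ by group, ← htdef, e]; group)
    have hts : t ≠ s := fun e => absurd (C.ep_inj (v := 1) (w := 2) (by norm_num) (by norm_num)
      (by rw [C.ep_one, C.ep_two]; exact e)) (by norm_num)
    obtain ⟨u, u', hu, huu, hu'u, hu'd, hu'2, hu'1⟩ : ∃ u u', l * (k⁻¹ * t * k) * l⁻¹ = u ∧ u ≠ u' ∧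
        Commute u' u ∧ Commute u' (el φ s 25) ∧ u' * u' = 1 ∧ u' ≠ 1 := by
      rcases hl with e | e
      · exact ⟨t, s, e, hts, C.s_comm, hsd.symm, C.sq, fun h => C.ep_ne_one (v := 2) (by norm_num) (by norm_num)
          (C.ep_two.trans h)⟩
      · exact ⟨s, t, e, hts.symm, C.s_comm.symm, (show Commute (el φ s 25) t from C.commutes (by norm_num)).symm, C.t_sq, C.t_ne⟩
    set m := k * l⁻¹
    have hm1 : m * u * m⁻¹ = t := by rw [← hu]; simp only [m]; group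
    have hm2 : m * el φ s 25 * m⁻¹ = el φ s 26 := by
      rw [← hk]
      simp only [m]
      calc k * l⁻¹ * el φ s 25 * (k * l⁻¹)⁻¹ = k * (l⁻¹ * (el φ s 25 * l)) * k⁻¹ := by group
        _ = _ := by rw [← hld.eq]; group
    obtain ⟨i, hi, hie⟩ := C.eq_el (g := m * u' * m⁻¹) (by
      have := commute_conj hu'u m; rwa [hm1] at this)
    have hI : isInv i = true := by
      rw [← C.isInv_iff hi, hie, BrauerSuzuki.orderOf_conj_eq]
      exact orderOf_eq_prime (by rw [pow_two]; exact hu'2) hu'1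
    have h' := allN_spec c_cent_e i hi
    rw [hI, (C.el_comm_iff hi (by norm_num)).1 (by rw [hie]; exact hm2 ▸ commute_conj hu'd m)] at h'
    simp only [Bool.and_self, Bool.not_true, Bool.false_or, beq_iff] at h'
    refine huu ?_
    rw [h', C.el_three] at hie
    have := hm1.trans hie
    exact mul_left_cancel (mul_right_cancel this)

/-- The embedding of `PSp₄(3)`. -/
theorem exists_embed : ∃ f : Cfsg.PSp 2 (ZMod 3) →* G, Function.Injective f ∧ (∀ g, f (φ0 g) = φ g) ∧ f s0 = s := by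
  obtain ⟨x, R, hxt⟩ := C.exists_rel
  have hz : φ (dd (-1)) * (s * φ (dd (-1)) * s⁻¹) = 1 := by rw [← slm_special.2.1]; exact C.z
  have hne : φ ≠ 1 := fun e => C.t_ne (by rw [e]; rfl)
  have hgen : ∀ u : (ZMod 3)ˣ, u ∈ Subgroup.zpowers (-1 : (ZMod 3)ˣ) := by
    intro u
    rcases (by decide : ∀ u : (ZMod 3)ˣ, u = 1 ∨ u = -1) u with rfl | rfl
    exacts [one_mem _, Subgroup.mem_zpowers _]
  obtain ⟨f, hf, f0, f1, fx⟩ := S3342Id.exists_hom_psp (le_of_eq (ZMod.card 3).symm) R hgen hz hne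
  have hf0 : ∀ g, f (φ0 g) = φ g := f0
  refine ⟨f, hf, hf0, ?_⟩
  have hsi : (s0 : Cfsg.PSp 2 (ZMod 3))⁻¹ = s0 := pre0.inv_s
  have hss : ∀ g, (π4 swap4 : Cfsg.PSp 2 (ZMod 3)) * π4 (emb 0 g) * (π4 swap4)⁻¹ = π4 (emb 1 g) := fun g => by
    rw [← map_inv, ← map_mul, ← map_mul, swap4_emb]
  have hψ : ∀ g, f s0 * φ g * (f s0)⁻¹ = s * φ g * s⁻¹ := fun g => by
    rw [← hf0, ← map_inv, ← map_mul, ← map_mul, show s0 * φ0 g * s0⁻¹ = π4 (emb 1 g) from hss g, hf0]
    exact f1 g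
  have hx' : f s0 * x = x * f s0 := by
    rw [← fx, ← map_mul, ← map_mul]
    exact congrArg f (show π4 swap4 * π4 x4 = π4 x4 * π4 swap4 by
      rw [← map_mul, ← map_mul, swap4_x.eq])
  set u := s⁻¹ * f s0
  have hu : ∀ g, Commute u (φ g) := fun g => by
    show _ = _
    calc s⁻¹ * f s0 * φ g = s⁻¹ * (f s0 * φ g * (f s0)⁻¹) * f s0 := by group
      _ = φ g * (s⁻¹ * f s0) := by rw [hψ]; group
  have hu' : ∀ g, Commute u (s * φ g * s⁻¹) := fun g => by
    show _ = _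
    calc s⁻¹ * f s0 * (s * φ g * s⁻¹) = s⁻¹ * f s0 * (f s0 * φ g * (f s0)⁻¹) := by rw [hψ]
      _ = s⁻¹ * (f (s0 * s0)) * φ g * (f s0)⁻¹ := by rw [map_mul]; group
      _ = s⁻¹ * φ g * f s0 := by
          rw [pre0.sq, map_one, mul_one, ← map_inv, hsi]
      _ = (s⁻¹ * φ g * s⁻¹⁻¹) * (s⁻¹ * f s0) := by group
      _ = _ := by simp only [u, C.inv_s]
  have hux : Commute u x := by
    show _ = _
    calc s⁻¹ * f s0 * x = s⁻¹ * x * f s0 := by rw [mul_assoc, hx']; group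
      _ = _ := by simp only [u, C.inv_s, R.sx.eq, mul_assoc]
  obtain ⟨i, hi, hie⟩ := C.eq_el (hu (slm 3))
  have h := allN_spec c_centre i hi
  have h9 : el φ s 9 = s * φ (slm 9) * s⁻¹ := by
    have hr := c_root
    simp only [Bool.and_eq_true, beq_iff] at hr
    rw [show el φ s 9 = el φ s (enc 0 0 9) from congrArg _ hr.1.2.symm, C.el_enc (by norm_num) (by norm_num) (by norm_num), slm_special.1, map_one, one_mul,
      pow_zero, mul_one]
  have h90 : el φ s (enc 0 9 0) = φ (slm 9) := by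
    rw [C.el_enc (by norm_num) (by norm_num) (by norm_num), slm_special.1, map_one, mul_one, mul_inv_cancel,
      mul_one, pow_zero, mul_one]
  rw [(C.el_comm_iff hi (by norm_num)).1 (by rw [hie, C.el_a]; exact hu _),
    (C.el_comm_iff hi (by norm_num)).1 (by rw [hie, C.el_a']; exact hu' _),
    (C.el_comm_iff hi (enc_spec (by norm_num) (by norm_num) (by norm_num)).1).1 (by rw [hie, h90]; exact hu _),
    (C.el_comm_iff hi (by norm_num)).1 (by rw [hie, h9]; exact hu' _)] at h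
  simp only [Bool.and_self, Bool.not_true, Bool.false_or, Bool.or_eq_true, beq_iff] at h
  rcases h with rfl | rfl
  · rw [C.el_zero] at hie
    exact inv_mul_eq_one.1 hie.symm |>.symm
  · rw [C.el_three] at hie
    exact absurd (hie ▸ hux).symm hxt

end Conf

end Cfsg.Agent.PspInv
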