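import Cfsg.Agent.Lib.Hayden.Table
import Cfsg.Agent.Lib.Golay.Local.Fast

/-!
The centraliser of a central involution of `PSp₄(3)`, indexed below 576, its elementary abelian subgroup of
order 16 and the linear maps of the latter.

An index is `288e + 24P + q`: two matrix positions, the first up to sign, followed by the exchange `e`.
-/

set_option autoImplicit false
set_option maxRecDepth 20000

namespace Cfsg.Agent.PspInv

open Cfsg.Agent.PermCert
open Cfsg.Agent.Hayden (sS sI)
open Cfsg.Agent.Golay.Local (allF anyF memF)

/-- Every number below `n` passes the test. -/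
def allN (f : ℕ → Bool) (n : ℕ) : Bool := Nat.rec true (fun i r => bif f i then r else false) n

/-- Some number below `n` passes the test. -/
def anyN (f : ℕ → Bool) (n : ℕ) : Bool := Nat.rec false (fun i r => bif f i then true else r) n

theorem allN_spec {f : ℕ → Bool} : ∀ {n : ℕ}, allN f n = true → ∀ i < n, f i = true := by
  intro n
  induction n with
  | zero => intro _ i hi; exact absurd hi (Nat.not_lt_zero i)
  | succ n ih =>
    intro h i hi
    change (bif f n then allN f n else false) = true at h
    cases hf : f n with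
    | false => rw [hf] at h; cases h
    | true =>
      rw [hf] at h
      rcases Nat.lt_succ_iff_lt_or_eq.1 hi with hlt | rfl
      · exact ih h i hlt
      · exact hf

theorem anyN_spec {f : ℕ → Bool} : ∀ {n : ℕ}, anyN f n = true → ∃ i < n, f i = true := by
  intro n
  induction n with
  | zero => intro h; cases h
  | succ n ih =>
    intro h
    change (bif f n then true else anyN f n) = true at h
    cases hf : f n with
    | true => exact ⟨n, Nat.lt_succ_self n, hf⟩
    | false =>
      rw [hf] at h
      obtain ⟨i, hi, e⟩ := ih h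
      exact ⟨i, hi.trans (Nat.lt_succ_self n), e⟩

/-- The negative of a matrix position. -/
def ng (k : ℕ) : ℕ := sS 3 k

/-- The chosen positions up to sign. -/
def isRep (k : ℕ) : Bool := Nat.blt k 3 || (Nat.ble 6 k && Nat.blt k 9) || (Nat.ble 12 k && Nat.blt k 18)

/-- The number of a chosen position. -/
def pOf (k : ℕ) : ℕ := bif Nat.blt k 3 then k else bif Nat.blt k 9 then k - 3 else k - 6

/-- The chosen position of a number. -/
def rp (P : ℕ) : ℕ := bif Nat.blt P 3 then P else bif Nat.blt P 6 then P + 3 else P + 6

/-- The index of a pair of positions followed by an exchange. -/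
def enc (e p q : ℕ) : ℕ := bif isRep p then e * 288 + pOf p * 24 + q else e * 288 + pOf (ng p) * 24 + ng q

/-- The first position of an index. -/
def p1 (i : ℕ) : ℕ := rp (i % 288 / 24)

/-- The second position of an index. -/
def p2 (i : ℕ) : ℕ := i % 24

/-- The product of two indices. -/
def T (i j : ℕ) : ℕ :=
  bif Nat.beq (i / 288) 0 then enc (j / 288) (sS (p1 i) (p1 j)) (sS (p2 i) (p2 j))
  else enc ((1 + j / 288) % 2) (sS (p1 i) (p2 j)) (sS (p2 i) (p1 j))

/-- The inverse of an index. -/
def iv (i : ℕ) : ℕ :=
  bif Nat.beq (i / 288) 0 then enc 0 (sI (p1 i)) (sI (p2 i)) else enc 1 (sI (p2 i)) (sI (p1 i))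

/-- Conjugation of indices. -/
def cj (h i : ℕ) : ℕ := T (T h i) (iv h)

/-- Two indices commute. -/
def cm (i j : ℕ) : Bool := Nat.beq (T i j) (T j i)

/-- An involution index. -/
def isInv (i : ℕ) : Bool := !(Nat.beq i 0) && Nat.beq (T i i) 0

/-- The indices of the elementary abelian subgroup of order 16, in four coordinates. -/
def elC : ℕ := 817179137413867244068230143730884123170535640064

/-- The index of a point. -/
def EL (v : ℕ) : ℕ := get 10 elC v

/-- The point of an index, 16 outside the subgroup. -/
def posE (i : ℕ) : ℕ := Nat.rec 16 (fun v r => bif Nat.beq (EL v) i then v else r) 16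

/-- A digit of the code of a linear map. -/
def nib (c k : ℕ) : ℕ := c / 16 ^ k % 16

/-- A linear map given by the images of the four basis points. -/
def ap (c v : ℕ) : ℕ :=
  Nat.xor (Nat.xor (bif Nat.beq (v % 2) 1 then nib c 0 else 0) (bif Nat.beq (v / 2 % 2) 1 then nib c 1 else 0))
    (Nat.xor (bif Nat.beq (v / 4 % 2) 1 then nib c 2 else 0) (bif Nat.beq (v / 8 % 2) 1 then nib c 3 else 0))

/-- The composite of two linear maps. -/
def cmp (c d : ℕ) : ℕ :=
  ap c (nib d 0) + 16 * ap c (nib d 1) + 256 * ap c (nib d 2) + 4096 * ap c (nib d 3)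

/-- A linear map is injective. -/
def indep (c : ℕ) : Bool := allN (fun v => Nat.beq v 0 || !(Nat.beq (ap c v) 0)) 16

/-- The code of the action of an index normalising the subgroup. -/
def codeH (i : ℕ) : ℕ :=
  posE (cj i (EL 1)) + 16 * posE (cj i (EL 2)) + 256 * posE (cj i (EL 4)) + 4096 * posE (cj i (EL 8))

/-- An index normalises the subgroup. -/
def nrm (i : ℕ) : Bool :=
  Nat.blt (posE (cj i (EL 1))) 16 && Nat.blt (posE (cj i (EL 2))) 16 && Nat.blt (posE (cj i (EL 4))) 16 &&
    Nat.blt (posE (cj i (EL 8))) 16

/-- The maps of the normaliser within the centraliser. -/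
def a4 : List ℕ := [33825, 51233, 19489, 38001, 55665, 19825, 34225, 55473, 23985, 38385, 51697, 23793]

/-- The sixty even maps. -/
def r60 : List ℕ := [13759, 14075, 14839, 14975, 15739, 16055, 18450, 18711, 19058, 19489, 19825, 20007, 21499, 22207, 22555, 22815, 23793, 23985, 25535, 26107, 26802, 27378, 27695, 28203, 33825, 34225, 34347, 35858, 36123, 36530, 37759, 38001, 38385, 39671, 39967, 40215, 41975, 42023, 42543, 43391, 44274, 44658, 50194, 50463, 50930, 51233, 51697, 51759, 54199, 54295, 54555, 55473, 55665, 56955, 58235, 58482, 59058, 59435, 59943, 60855]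

/-- The maps sending the first point to the second that survive. -/
def surv : List ℕ := [50194, 18450, 35858, 58482, 19058, 44658, 59058, 26802, 36530, 50930, 27378, 44274]

/-- Short words excluding the other maps sending the first point to the second. -/
def words2 : List (List ℕ) := [[0, 0, 1], [3, 3, 4], [6, 6, 7], [9, 9, 10], [1, 0], [5, 3], [7, 6], [10, 9], [2, 2, 0], [4, 7, 7], [4, 4, 3], [2, 11, 11], [9, 0], [5, 0], [2, 8, 8], [5, 6], [5, 9], [2, 8, 9], [3, 6], [3, 0], [8, 11, 3], [6, 0, 3], [0, 0], [0, 3, 0], [0, 3, 6], [0, 3, 9], [0, 6, 3], [0, 6, 9], [0, 9, 0], [0, 9, 6], [3, 0, 3], [3, 0, 6]]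

/-- Short words excluding all maps sending the first point to the third basis point. -/
def words4 : List (List ℕ) := [[0, 0, 3], [6, 6, 9], [2, 2, 11], [8, 8, 5], [1, 7, 7], [4, 10, 10], [0, 4, 4], [7, 0, 1], [1, 1, 7], [1, 7], [7, 7, 4], [4, 10], [10, 3, 4], [10, 4], [1, 4], [0, 3], [2, 3, 0], [2, 2], [0, 1, 4], [5, 5], [6, 6], [1, 2, 5], [1, 5, 2], [2, 6, 0]]

/-- The map of a word: copies of `f` separated by maps fixing the first point. -/
def wmap (f : ℕ) (w : List ℕ) : ℕ :=
  List.foldl (fun g a => cmp (cmp g (a4.getD a 0)) f) f w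

/-- A map that cannot occur. -/
def bad (g : ℕ) : Bool := Nat.beq (nib g 0) 1 && !(memF g a4)

/-- A word excludes the map. -/
def killed (ws : List (List ℕ)) (f : ℕ) : Bool := anyF (fun w => bad (wmap f w)) ws

/-- The five points. -/
def P5 : List ℕ := [1, 2, 7, 11, 15]

/-- The six points of the first ten lying in the subgroup of index two. -/
def U6 : List ℕ := [4, 5, 8, 9, 12, 13]

end Cfsg.Agent.PspInv
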